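import Groth.Agent.GrSect.K960.SectRing
import Mathlib.Algebra.Module.SpanRank
import Mathlib.LinearAlgebra.Dimension.Constructions
import Mathlib.LinearAlgebra.FiniteDimensional.Defs

/-!
# Generators of the section ring of a point
-/

set_option autoImplicit false
universe u

namespace K960.Gens

open Polynomial FunFld WithZero K960.Sect K960.SemiRing K960.SectRing W4c6gradedringsgw

theorem minGens_finite {H : AddSubmonoid ℕ} {N : ℕ} (hN : ∀ n, N ≤ n → n ∈ H) :
    (minGens (H : Set ℕ)).Finite := by
  refine (Set.finite_lt_nat (2 * (N + 1))).subset fun h hh => ?_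
  by_contra hcon
  change ¬ h < 2 * (N + 1) at hcon
  push Not at hcon
  exact hh.2.2 (N + 1) (hN _ (by omega)) (h - (N + 1)) (hN _ (by omega)) (by omega) (by omega)
    (by omega)

variable {k K : Type u} [Field k] [Field K] [Algebra k K] (P : Place k K)

/-- an element with pole of order exactly `h` at `P` -/
noncomputable def gen (h : WS P) : K := (mem_WS.1 h.2).choose

theorem gen_mem (h : WS P) : gen P h ∈ L (((h : ℕ) : ℤ) • (Finsupp.single P 1 : Divisor k K)) :=
  (mem_WS.1 h.2).choose_spec.1

theorem gen_val (h : WS P) : P.1 (gen P h) = exp ((h : ℕ) : ℤ) :=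
  (mem_WS.1 h.2).choose_spec.2

/-- the generators. -/
noncomputable def genR (h : minGens (WS P : Set ℕ)) : R P := mon P (gen_mem P ⟨h.1, h.2.1⟩)

/-- the generating set -/
def G : Set (R P) := insert (XR P) (Set.range (genR P))

variable {P}
variable [IsAlgClosed k] (hK : IsFunctionField k K)

include hK

theorem mon_mem_adjoin (n : ℕ) : ∀ (x : K)
    (hx : x ∈ L ((n : ℤ) • (Finsupp.single P 1 : Divisor k K))),
    mon P hx ∈ Algebra.adjoin k (G P) := by
  induction n using Nat.strong_induction_on with
  | _ n ih =>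
    have hlow : ∀ (x : K) (hx : x ∈ L ((n : ℤ) • (Finsupp.single P 1 : Divisor k K))),
        P.1 x ≤ exp ((n : ℤ) - 1) → mon P hx ∈ Algebra.adjoin k (G P) := by
      intro x hx hx1
      rcases Nat.eq_zero_or_pos n with rfl | hn
      · have h0 : x = 0 := by
          obtain ⟨c, rfl⟩ := mem_range_of_mem_L_zero hK (x := x) (by simpa using hx)
          by_contra hne
          have hc0 : c ≠ 0 := by rintro rfl; exact hne (map_zero _)
          rw [K660.Ord.val_algebraMap P hc0, ← exp_zero, exp_le_exp] at hx1
          norm_num at hx1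
        subst h0
        have : mon P hx = 0 := by
          apply Subtype.ext
          rw [mon_val, C_0, zero_mul]; rfl
        rw [this]; exact Subalgebra.zero_mem _
      · obtain ⟨m, rfl⟩ : ∃ m, n = m + 1 := ⟨n - 1, by omega⟩
        have hx' : x ∈ L ((m : ℤ) • (Finsupp.single P 1 : Divisor k K)) := by
          rw [mem_L_zsmul_iff] at hx ⊢
          refine ⟨?_, hx.2⟩
          push_cast at hx1
          rwa [add_sub_cancel_right] at hx1
        have : mon P hx = XR P * mon P hx' := by
          apply Subtype.ext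
          rw [MulMemClass.coe_mul, XR_val, mon_val, mon_val]
          ring
        rw [this]
        exact Subalgebra.mul_mem _ (Algebra.subset_adjoin (Set.mem_insert _ _))
          (ih m (by omega) x hx')
    intro x hx
    by_cases hlt : P.1 x ≤ exp ((n : ℤ) - 1)
    · exact hlow x hx hlt
    · have hxle : P.1 x ≤ exp (n : ℤ) := ((mem_L_zsmul_iff P _ _).1 hx).1
      have hxeq : P.1 x = exp (n : ℤ) := by
        rw [← lc_ne_zero_iff hK P hxle]
        exact fun h => hlt ((lc_eq_zero_iff hK P hxle).1 h)
      have hnW : n ∈ WS P := ⟨x, hx, hxeq⟩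
      -- a good element
      obtain ⟨y, hy, hyv, hyT⟩ : ∃ (y : K)
          (hy : y ∈ L ((n : ℤ) • (Finsupp.single P 1 : Divisor k K))),
          P.1 y = exp (n : ℤ) ∧ mon P hy ∈ Algebra.adjoin k (G P) := by
        rcases Nat.eq_zero_or_pos n with rfl | hn
        · refine ⟨1, one_mem_L P 0, by simp, ?_⟩
          have : mon P (one_mem_L P 0) = 1 := by
            apply Subtype.ext
            rw [mon_val, C_1, one_mul, pow_zero]; rfl
          rw [this]; exact Subalgebra.one_mem _
        by_cases hmin : n ∈ minGens (WS P : Set ℕ)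
        · exact ⟨gen P ⟨n, hmin.1⟩, gen_mem P ⟨n, hmin.1⟩, gen_val P ⟨n, hmin.1⟩,
            Algebra.subset_adjoin (Set.mem_insert_of_mem _ ⟨⟨n, hmin⟩, rfl⟩)⟩
        · have : ∃ a ∈ WS P, ∃ b ∈ WS P, a ≠ 0 ∧ b ≠ 0 ∧ a + b = n := by
            by_contra hcon
            push Not at hcon
            exact hmin ⟨hnW, by omega, fun a ha b hb ha0 hb0 => hcon a ha b hb ha0 hb0⟩
          obtain ⟨a, ⟨u, hu, hu'⟩, b, ⟨v, hv, hv'⟩, ha0, hb0, rfl⟩ := this
          have huv : u * v ∈ L (((a + b : ℕ) : ℤ) • (Finsupp.single P 1 : Divisor k K)) := by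
            have := mul_mem_L hu hv
            rwa [← add_smul, ← Nat.cast_add] at this
          refine ⟨u * v, huv, by rw [map_mul, hu', hv', ← exp_add, Nat.cast_add], ?_⟩
          have : mon P huv = mon P hu * mon P hv := by
            apply Subtype.ext
            rw [MulMemClass.coe_mul, mon_val, mon_val, mon_val, C_mul, pow_add]
            ring
          rw [this]
          exact Subalgebra.mul_mem _ (ih a (by omega) u hu) (ih b (by omega) v hv)
      have hlc : lc P n y ≠ 0 := (lc_ne_zero_iff hK P hyv.le).2 hyv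
      set c : k := lc P n x / lc P n y with hc
      have hcy : algebraMap k K c * y ∈ L ((n : ℤ) • (Finsupp.single P 1 : Divisor k K)) := by
        rw [← Algebra.smul_def]; exact Submodule.smul_mem _ _ hy
      have hd : x - algebraMap k K c * y ∈ L ((n : ℤ) • (Finsupp.single P 1 : Divisor k K)) :=
        Submodule.sub_mem _ hx hcy
      have hcyle : P.1 (algebraMap k K c * y) ≤ exp (n : ℤ) := ((mem_L_zsmul_iff P _ _).1 hcy).1
      have hdle := ((mem_L_zsmul_iff P _ _).1 hd).1
      have hd1 : P.1 (x - algebraMap k K c * y) ≤ exp ((n : ℤ) - 1) := by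
        rw [← lc_eq_zero_iff hK P hdle]
        have h1 : lc P n x = lc P n ((x - algebraMap k K c * y) + algebraMap k K c * y) := by
          rw [sub_add_cancel]
        rw [lc_add hK P hdle hcyle, lc_smul hK P c hyv.le, hc, div_mul_cancel₀ _ hlc] at h1
        exact (add_eq_right.1 h1.symm)
      have h2 : mon P hx = mon P hd + algebraMap k (R P) c * mon P hy := by
        apply Subtype.ext
        rw [AddMemClass.coe_add, MulMemClass.coe_mul, mon_val, mon_val, mon_val]
        change _ = _ + C (algebraMap k K c) * _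
        rw [C_sub, C_mul]
        ring
      rw [h2]
      exact Subalgebra.add_mem _ (hlow _ hd hd1)
        (Subalgebra.mul_mem _ (Subalgebra.algebraMap_mem _ _) hyT)

theorem adjoin_G : Algebra.adjoin k (G P) = ⊤ := by
  rw [eq_top_iff]
  intro p _
  rw [eq_sum_mon P p]
  exact Subalgebra.sum_mem _ fun n _ => mon_mem_adjoin hK n _ _

theorem G_finite : (G P).Finite := by
  obtain ⟨N, hN⟩ := exists_forall_mem_WS hK P
  have := (minGens_finite hN).to_subtype
  exact (Set.finite_range _).insert _

theorem finiteType : Algebra.FiniteType k (R P) :=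
  ⟨⟨(G_finite hK).toFinset, by rw [Set.Finite.coe_toFinset]; exact adjoin_G hK⟩⟩

theorem isNoetherianRing : IsNoetherianRing (R P) := by
  have := finiteType (P := P) hK
  exact Algebra.FiniteType.isNoetherianRing k _

omit [IsAlgClosed k] hK in
variable (P) in
/-- the irrelevant ideal -/
noncomputable def I : Ideal (R P) :=
  RingHom.ker (Polynomial.constantCoeff.comp (R P).val.toRingHom)

omit [IsAlgClosed k] hK in
theorem mem_I {p : R P} : p ∈ I P ↔ p.1.coeff 0 = 0 := Iff.rfl

omit [IsAlgClosed k] hK in
theorem G_subset_I : G P ⊆ I P := by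
  rintro p (rfl | ⟨h, rfl⟩)
  · change (XR P).1.coeff 0 = 0
    rw [XR_val, coeff_X_zero]
  · change (genR P h).1.coeff 0 = 0
    rw [genR, mon_val, coeff_C_mul, coeff_X_pow, if_neg (fun h0 => h.2.2.1 h0.symm), mul_zero]

theorem span_G : Ideal.span (G P) = I P := by
  refine le_antisymm (Ideal.span_le.2 G_subset_I) fun p hp => ?_
  have key : ∀ q ∈ Algebra.adjoin k (G P), ∃ c : k, q - algebraMap k (R P) c ∈ Ideal.span (G P) := by
    intro q hq
    induction hq using Algebra.adjoin_induction with
    | mem x hx => exact ⟨0, by rw [map_zero, sub_zero]; exact Ideal.subset_span hx⟩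
    | algebraMap c => exact ⟨c, by rw [sub_self]; exact Ideal.zero_mem _⟩
    | add x y _ _ hx hy =>
      obtain ⟨c, hc⟩ := hx
      obtain ⟨d, hd⟩ := hy
      refine ⟨c + d, ?_⟩
      have : x + y - algebraMap k (R P) (c + d) =
        (x - algebraMap k (R P) c) + (y - algebraMap k (R P) d) := by rw [map_add]; ring
      rw [this]
      exact Ideal.add_mem _ hc hd
    | mul x y _ _ hx hy =>
      obtain ⟨c, hc⟩ := hx
      obtain ⟨d, hd⟩ := hy
      refine ⟨c * d, ?_⟩
      have : x * y - algebraMap k (R P) (c * d) =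
        x * (y - algebraMap k (R P) d) + algebraMap k (R P) d * (x - algebraMap k (R P) c) := by
          rw [map_mul]; ring
      rw [this]
      exact Ideal.add_mem _ (Ideal.mul_mem_left _ _ hd) (Ideal.mul_mem_left _ _ hc)
  obtain ⟨c, hc⟩ := key p (by rw [adjoin_G hK]; exact Algebra.mem_top)
  have h1 : p - algebraMap k (R P) c ∈ I P := (Ideal.span_le.2 G_subset_I) hc
  have h2 : c = 0 := by
    have h3 : (p - algebraMap k (R P) c).1.coeff 0 = 0 := h1
    have h4 : (p - algebraMap k (R P) c).1 = p.1 - C (algebraMap k K c) := rfl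
    rw [h4, coeff_sub, coeff_C_zero, mem_I.1 hp, zero_sub, neg_eq_zero] at h3
    exact (map_eq_zero _).1 h3
  rwa [h2, map_zero, sub_zero] at hc

theorem spanFinrank_le : (I P).spanFinrank ≤ (minGens (WS P : Set ℕ)).ncard + 1 := by
  rw [← span_G hK]
  refine (Submodule.spanFinrank_span_le_ncard_of_finite (G_finite hK)).trans ?_
  refine (Set.ncard_insert_le _ _).trans ?_
  obtain ⟨N, hN⟩ := exists_forall_mem_WS hK P
  have hf := minGens_finite hN
  have := hf.to_subtype
  have h1 : (Set.range (genR P)).ncard ≤ (minGens (WS P : Set ℕ)).ncard := by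
    rw [← Set.image_univ]
    refine (Set.ncard_image_le Set.finite_univ).trans ?_
    rw [Set.ncard_univ]
    rfl
  omega

omit hK in
theorem coeff_zero_I (p : I P) : p.1.1.coeff 0 = 0 := p.2

theorem exists_coeff_one (hg : 1 ≤ genus k K) (p : R P) :
    ∃ c : k, algebraMap k K c = p.1.coeff 1 :=
  mem_range_of_mem_L_one hK P hg (by
    have := p.2 1
    simpa using this)

theorem val_coeff_one_le (hg : 1 ≤ genus k K) (p : R P) :
    P.1 (p.1.coeff 1) ≤ exp ((0 : ℕ) : ℤ) := by
  obtain ⟨c, hc⟩ := exists_coeff_one hK hg p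
  rw [← hc, Nat.cast_zero, exp_zero]
  exact P.2.1 c

omit hK in
theorem psi_coeff_ne_zero (hK : IsFunctionField k K) (p : R P) {n : ℕ}
    (h : (psi hK p).coeff n ≠ 0) : n ∈ WS P := by
  rw [coeff_psi] at h
  exact ⟨p.1.coeff n, p.2 n, (lc_ne_zero_iff hK P (val_coeff_le P p n)).1 h⟩

omit hK in
/-- the residue map `R → k` -/
noncomputable def sig (hK : IsFunctionField k K) : R P →+* k :=
  (Polynomial.constantCoeff (R := k)).comp (psi hK (P := P)).toRingHom

omit hK in
theorem sig_surjective (hK : IsFunctionField k K) : Function.Surjective (sig hK (P := P)) := by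
  intro c
  refine ⟨algebraMap k (R P) c, ?_⟩
  change (psi hK (algebraMap k (R P) c)).coeff 0 = c
  rw [AlgHom.commutes, Polynomial.algebraMap_apply, Algebra.algebraMap_self, RingHom.id_apply,
    coeff_C_zero]

omit hK in
/-- the linear forms separating the generators modulo `I ^ 2` -/
noncomputable def lam (hK : IsFunctionField k K) (hg : 1 ≤ genus k K) :
    I P →ₛₗ[sig hK (P := P)] (Option (minGens (WS P : Set ℕ)) → k) where
  toFun p o := o.elim (lc P 0 (p.1.1.coeff 1)) (fun h => (psi hK p.1).coeff h.1)
  map_add' p q := by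
    funext o
    cases o with
    | none =>
      change lc P 0 ((p.1.1 + q.1.1).coeff 1) = lc P 0 _ + lc P 0 _
      rw [coeff_add, lc_add hK P (val_coeff_one_le hK hg p.1) (val_coeff_one_le hK hg q.1)]
    | some h =>
      change (psi hK (p.1 + q.1)).coeff h.1 = (psi hK p.1).coeff h.1 + (psi hK q.1).coeff h.1
      rw [map_add, coeff_add]
  map_smul' r p := by
    funext o
    cases o with
    | none =>
      change lc P 0 ((r.1 * p.1.1).coeff 1) = (psi hK r).coeff 0 * lc P 0 (p.1.1.coeff 1)
      have h1 : (r.1 * p.1.1).coeff 1 = r.1.coeff 0 * p.1.1.coeff 1 := by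
        rw [coeff_mul, Finset.Nat.antidiagonal_succ]
        simp [coeff_zero_I p]
      have h2 := lc_mul hK P (m := 0) (n := 0) (val_coeff_le P r 0) (val_coeff_one_le hK hg p.1)
      rw [h1, coeff_psi]
      exact h2
    | some h =>
      change (psi hK (r * p.1)).coeff h.1 = (psi hK r).coeff 0 * (psi hK p.1).coeff h.1
      rw [map_mul, coeff_mul, Finset.sum_eq_single (0, h.1)]
      · rintro ⟨i, j⟩ hij hne
        rw [Finset.mem_antidiagonal] at hij
        simp only at hij ⊢
        have hi : i ≠ 0 := by
          rintro rfl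
          apply hne
          rw [← hij, zero_add]
        by_cases hj : j = 0
        · subst hj
          rw [coeff_psi hK p.1 0, coeff_zero_I p, lc_zero, mul_zero]
        · by_contra hcon
          exact h.2.2.2 i (psi_coeff_ne_zero hK r (left_ne_zero_of_mul hcon)) j
            (psi_coeff_ne_zero hK p.1 (right_ne_zero_of_mul hcon)) hi hj hij
      · intro hcon
        exact absurd (Finset.mem_antidiagonal.2 (zero_add h.1)) hcon

omit hK in
theorem lam_none (hK : IsFunctionField k K) (hg : 1 ≤ genus k K) (p : I P) :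
    lam hK hg p none = lc P 0 (p.1.1.coeff 1) := rfl

omit hK in
theorem lam_some (hK : IsFunctionField k K) (hg : 1 ≤ genus k K) (p : I P)
    (h : minGens (WS P : Set ℕ)) : lam hK hg p (some h) = (psi hK p.1).coeff h.1 := rfl

theorem psi_XR : psi hK (XR P) = 0 := by
  have : XR P ∈ RingHom.ker (psi hK (P := P)) := by
    rw [ker_psi hK]; exact Ideal.mem_span_singleton_self _
  exact this

theorem lam_surjective_aux (hg : 1 ≤ genus k K) (M : Submodule k (Option (minGens (WS P : Set ℕ)) → k))
    (hM : ∀ p : I P, lam hK hg p ∈ M) : M = ⊤ := by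
  classical
  obtain ⟨N, hN⟩ := exists_forall_mem_WS hK P
  have hf := minGens_finite hN
  have := hf.to_subtype
  have := Fintype.ofFinite (minGens (WS P : Set ℕ))
  have hnone : Pi.single none (1 : k) ∈ M := by
    have h1 := hM ⟨XR P, G_subset_I (Set.mem_insert _ _)⟩
    convert h1 using 1
    funext o
    cases o with
    | none =>
      rw [lam_none, Pi.single_eq_same]
      have := lc_algebraMap P (1 : k)
      rw [map_one] at this
      rw [XR_val, coeff_X_one, this]
    | some h =>
      rw [lam_some, psi_XR, coeff_zero, Pi.single_eq_of_ne (by simp)]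
  have hsome : ∀ h : minGens (WS P : Set ℕ), Pi.single (some h) (1 : k) ∈ M := by
    intro h
    have h1 := hM ⟨genR P h, G_subset_I (Set.mem_insert_of_mem _ ⟨h, rfl⟩)⟩
    have h2 : lc P h.1 (gen P ⟨h.1, h.2.1⟩) ≠ 0 :=
      (lc_ne_zero_iff hK P (gen_val P ⟨h.1, h.2.1⟩).le).2 (gen_val P ⟨h.1, h.2.1⟩)
    have h3 : lam hK hg ⟨genR P h, G_subset_I (Set.mem_insert_of_mem _ ⟨h, rfl⟩)⟩ =
        (lc P h.1 (gen P ⟨h.1, h.2.1⟩)) • Pi.single (some h) (1 : k) := by
      funext o
      rw [Pi.smul_apply, smul_eq_mul]
      cases o with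
      | none =>
        have hne : (1 : ℕ) ≠ h.1 := by
          intro h1
          exact one_notMem_WS hK P hg (by rw [h1]; exact h.2.1)
        rw [lam_none, Pi.single_eq_of_ne (by simp), mul_zero]
        change lc P 0 ((C (gen P ⟨h.1, h.2.1⟩) * X ^ h.1 : K[X]).coeff 1) = 0
        rw [coeff_C_mul, coeff_X_pow, if_neg hne, mul_zero, lc_zero]
      | some h' =>
        rw [lam_some]
        change (psi hK (mon P (gen_mem P ⟨h.1, h.2.1⟩))).coeff h'.1 = _
        rw [psi_mon, coeff_C_mul, coeff_X_pow]
        by_cases hh : h' = h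
        · subst hh
          rw [if_pos rfl, Pi.single_eq_same]
        · rw [if_neg (fun h1 => hh (Subtype.ext h1)), Pi.single_eq_of_ne (by simpa using hh)]
    rw [h3] at h1
    have h4 := M.smul_mem (lc P h.1 (gen P ⟨h.1, h.2.1⟩))⁻¹ h1
    rwa [smul_smul, inv_mul_cancel₀ h2, one_smul] at h4
  rw [eq_top_iff]
  intro v _
  have hv : v = ∑ o, v o • Pi.single o (1 : k) := by
    funext o
    rw [Finset.sum_apply, Finset.sum_eq_single o]
    · simp
    · intro b _ hb
      rw [Pi.smul_apply, Pi.single_eq_of_ne (Ne.symm hb), smul_zero]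
    · intro h; exact absurd (Finset.mem_univ _) h
  rw [hv]
  refine Submodule.sum_mem _ fun o _ => Submodule.smul_mem _ _ ?_
  cases o with
  | none => exact hnone
  | some h => exact hsome h

theorem le_spanFinrank (hg : 1 ≤ genus k K) :
    (minGens (WS P : Set ℕ)).ncard + 1 ≤ (I P).spanFinrank := by
  have hs : RingHomSurjective (sig hK (P := P)) := ⟨sig_surjective hK⟩
  obtain ⟨N, hN⟩ := exists_forall_mem_WS hK P
  have hf := minGens_finite hN
  have := hf.to_subtype
  have := Fintype.ofFinite (minGens (WS P : Set ℕ))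
  have hNoeth := isNoetherianRing (P := P) hK
  have h1 := Submodule.spanFinrank_map_le_of_fg (lam hK hg (P := P)) (p := ⊤)
    (IsNoetherian.noetherian _)
  rw [Submodule.spanFinrank_top, lam_surjective_aux hK hg _ fun p =>
    Submodule.mem_map_of_mem Submodule.mem_top, ← Module.finrank_eq_spanFinrank_of_free,
    Module.finrank_pi, Fintype.card_option, ← Nat.card_eq_fintype_card] at h1
  exact h1

theorem spanFinrank_eq (hg : 1 ≤ genus k K) :
    (I P).spanFinrank = (minGens (WS P : Set ℕ)).ncard + 1 :=
  le_antisymm (spanFinrank_le hK) (le_spanFinrank hK hg)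

end K960.Gens
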