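import Groth.Agent.GrSect.K960.SemiRing
import Groth.Agent.LoccohA.GorBC
import Groth.Agent.CurvesB.GorDimOne
import Groth.Agent.Models.H73.NodeLocal
import Mathlib.RingTheory.Localization.LocalizationLocalization

/-!
# The semigroup ring of a numerical semigroup is Gorenstein iff the semigroup is symmetric
-/

set_option autoImplicit false
universe u

namespace K960.GorSemi

open Polynomial K960.Semi K960.SemiRing IsLocalRing Groth.Agent

/-- If `R ⊆ B` become equal after inverting `x` and `B` is Gorenstein then `R` is Gorenstein at the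
primes not containing `x`. -/
theorem gor_of_sub {R B : Type u} [CommRing R] [CommRing B] [IsDomain B] [Algebra R B]
    (hinj : Function.Injective (algebraMap R B)) (x : R) (hx : x ≠ 0)
    (h : ∀ b : B, ∃ (n : ℕ) (r : R), algebraMap R B r = algebraMap R B x ^ n * b)
    (hB : LocCoh.IsGorensteinRing B) (p : Ideal R) [hp : p.IsPrime] (hxp : x ∉ p) :
    LocCoh.IsGorensteinLocalRing (Localization.AtPrime p) := by
  let L := Localization.Away (algebraMap R B x)
  have hx' : algebraMap R B x ≠ 0 := fun h0 => hx (hinj (by rw [h0, map_zero]))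
  have hBL : Function.Injective (algebraMap B L) :=
    IsLocalization.injective L (powers_le_nonZeroDivisors_of_noZeroDivisors hx')
  have hRL : Function.Injective (algebraMap R L) := by
    rw [IsScalarTower.algebraMap_eq R B L]
    exact hBL.comp hinj
  have hunit : IsUnit (algebraMap B L (algebraMap R B x)) :=
    IsLocalization.Away.algebraMap_isUnit (S := L) (algebraMap R B x)
  have hloc : IsLocalization (Submonoid.powers x) L := by
    refine ⟨?_, ?_, ?_⟩
    · rintro ⟨_, n, rfl⟩
      change IsUnit (algebraMap R L (x ^ n))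
      rw [map_pow, IsScalarTower.algebraMap_apply R B L]
      exact hunit.pow n
    · intro z
      obtain ⟨⟨b, ⟨_, n, rfl⟩⟩, hb⟩ := IsLocalization.surj
        (Submonoid.powers (algebraMap R B x)) z
      obtain ⟨m, r, hr⟩ := h b
      refine ⟨⟨r, ⟨x ^ (n + m), n + m, rfl⟩⟩, ?_⟩
      simp only at hb ⊢
      rw [IsScalarTower.algebraMap_apply R B L r, hr, map_mul, ← hb,
        IsScalarTower.algebraMap_apply R B L (x ^ (n + m))]
      simp only [map_pow]
      ring
    · intro a b hab
      exact ⟨1, by rw [hRL hab]⟩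
  have hG : LocCoh.IsGorensteinRing L :=
    LoccohA.GorBC.isGorensteinRing_of_isLocalization (Submonoid.powers (algebraMap R B x)) hB
  have hdisj : Disjoint ((Submonoid.powers x : Submonoid R) : Set R) (p : Set R) := by
    rw [Set.disjoint_left]
    rintro _ ⟨n, rfl⟩ hn
    exact hxp (hp.mem_of_pow_mem n hn)
  have hp' : (p.map (algebraMap R L)).IsPrime :=
    IsLocalization.isPrime_of_isPrime_disjoint (Submonoid.powers x) L p hp hdisj
  have hcomap : (p.map (algebraMap R L)).comap (algebraMap R L) = p :=
    IsLocalization.under_map_of_isPrime_disjoint (Submonoid.powers x) L hp hdisj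
  have h1 : IsLocalization.AtPrime (Localization.AtPrime (p.map (algebraMap R L)))
      ((p.map (algebraMap R L)).comap (algebraMap R L)) :=
    IsLocalization.isLocalization_isLocalization_atPrime_isLocalization (Submonoid.powers x)
      (Localization.AtPrime (p.map (algebraMap R L))) (p.map (algebraMap R L))
  have h2 : IsLocalization.AtPrime (Localization.AtPrime (p.map (algebraMap R L))) p := by
    convert h1 using 1
    exact hcomap.symm
  exact LoccohA.GorBC.isGorensteinLocalRing_of_ringEquiv
    (IsLocalization.algEquiv p.primeCompl (Localization.AtPrime (p.map (algebraMap R L)))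
      (Localization.AtPrime p)).toRingEquiv
    (hG.isGorensteinLocalRing_localization (p.map (algebraMap R L)))

variable {k : Type u} [Field k] {H : AddSubmonoid ℕ}

section

variable (O : Type u) [CommRing O] [Algebra (S k H) O] [IsLocalization.AtPrime O (m k H)]

include k H in
theorem algebraMap_mem_span_iff {e : ℕ} (he : e ∈ H) (a : S k H) :
    algebraMap (S k H) O a ∈ Ideal.span {algebraMap (S k H) O (mono k he)} ↔
      a ∈ Ideal.span {mono k he} := by
  constructor
  · intro h
    rw [← Set.image_singleton, ← Ideal.map_span,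
      IsLocalization.mem_map_algebraMap_iff (m k H).primeCompl] at h
    obtain ⟨⟨⟨i, hi⟩, ⟨u, hu⟩⟩, hiu⟩ := h
    simp only at hiu
    rw [← map_mul] at hiu
    have hinj : Function.Injective (algebraMap (S k H) O) :=
      IsLocalization.injective O (Ideal.primeCompl_le_nonZeroDivisors (m k H))
    have h1 := hinj hiu
    refine contract he u a hu ?_
    rw [mul_comm, h1]
    exact hi
  · intro h
    rw [Ideal.mem_span_singleton'] at h ⊢
    obtain ⟨b, rfl⟩ := h
    exact ⟨algebraMap _ _ b, by rw [map_mul]⟩

variable [IsLocalRing O]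

theorem socle_local_iff {e : ℕ} (he : e ∈ H) (a : S k H) :
    (∀ t ∈ maximalIdeal O, t * algebraMap (S k H) O a ∈
      Ideal.span {algebraMap (S k H) O (mono k he)}) ↔
      ∀ t ∈ m k H, t * a ∈ Ideal.span {mono k he} := by
  constructor
  · intro h t ht
    rw [← algebraMap_mem_span_iff O, map_mul]
    exact h _ ((IsLocalization.AtPrime.to_map_mem_maximal_iff O (m k H) t).2 ht)
  · intro h t ht
    obtain ⟨s, u, rfl⟩ := IsLocalization.exists_mk'_eq (m k H).primeCompl t
    have hs : s ∈ m k H := (IsLocalization.AtPrime.mk'_mem_maximal_iff O (m k H) s u).1 ht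
    have h1 := (algebraMap_mem_span_iff O he (s * a)).2 (h s hs)
    have h2 : IsLocalization.mk' O s u * algebraMap (S k H) O a =
        IsLocalization.mk' O 1 u * algebraMap (S k H) O (s * a) := by
      rw [IsLocalization.mk'_eq_mul_mk'_one, map_mul]; ring
    rw [h2]
    exact Ideal.mul_mem_left _ _ h1

end

theorem ringKrullDim_le (k : Type u) [Field k] {H : AddSubmonoid ℕ} (O : Type u) [CommRing O]
    [Algebra (S k H) O] [IsLocalization.AtPrime O (m k H)]
    {e : ℕ} (he : e ∈ H) (h0 : e ≠ 0) : ringKrullDim O ≤ 1 := by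
  have h1 : Ring.KrullDimLE 1 (S k H) := krullDimLE he h0
  rw [IsLocalization.AtPrime.ringKrullDim_eq_height (m k H) O]
  exact (Ideal.height_le_ringKrullDim_of_isPrime).trans (by exact_mod_cast Order.KrullDimLE.krullDim_le)

/-- Gorenstein implies a unique pseudo-Frobenius number. -/
theorem PF_unique (k : Type u) [Field k] {H : AddSubmonoid ℕ} (O : Type u) [CommRing O]
    [IsLocalRing O] [Algebra (S k H) O] [IsLocalization.AtPrime O (m k H)] {e : ℕ} (he : e ∈ H) (h0 : e ≠ 0) (hG : LocCoh.IsGorensteinLocalRing O)
    (x y : ℤ) (hx : PF H x) (hy : PF H y) : x = y := by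
  have hN : IsNoetherianRing (S k H) := isNoetherianRing he h0
  obtain ⟨w, hw, hwe⟩ := hx.2 e he h0
  obtain ⟨v, hv, hve⟩ := hy.2 e he h0
  have hx' : PF H ((w : ℤ) - e) := by rwa [hwe, add_sub_cancel_right]
  have hy' : PF H ((v : ℤ) - e) := by rwa [hve, add_sub_cancel_right]
  have hinj : Function.Injective (algebraMap (S k H) O) :=
    IsLocalization.injective O (Ideal.primeCompl_le_nonZeroDivisors (m k H))
  have hne : mono k he ≠ 0 := fun h => by
    have := congrArg Subtype.val h
    exact pow_ne_zero e X_ne_zero this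
  have hfm : algebraMap (S k H) O (mono k he) ∈ maximalIdeal O := by
    rw [IsLocalization.AtPrime.to_map_mem_maximal_iff O (m k H), mem_m, mono_val, coeff_X_pow,
      if_neg (fun h => h0 h.symm)]
  have hreg : IsSMulRegular O (algebraMap (S k H) O (mono k he)) := by
    have : IsDomain O := IsLocalization.isDomain_of_le_nonZeroDivisors O
      (Ideal.primeCompl_le_nonZeroDivisors (m k H))
    exact IsSMulRegular.of_ne_zero (fun h => hne (hinj (by rw [h, map_zero])))
  have key : ∀ (z : ℕ) (hz : z ∈ H), PF H ((z : ℤ) - e) →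
      algebraMap (S k H) O (mono k hz) ∉ Ideal.span {algebraMap (S k H) O (mono k he)} := by
    intro z hz hPF h
    rw [algebraMap_mem_span_iff O, mem_span_mono_iff] at h
    obtain ⟨h', hh', hh⟩ := h z (by rw [mono_val, coeff_X_pow, if_pos rfl]; exact one_ne_zero)
    exact hPF.1 ⟨h', hh', by omega⟩
  obtain ⟨c, hc⟩ := Models.H73.NodeLocal.socle_mod hG hfm hreg (ringKrullDim_le k O he h0)
    (algebraMap (S k H) O (mono k hw)) (algebraMap (S k H) O (mono k hv))
    ((socle_local_iff O he _).2 (mul_mono_mem_span he hw hx'))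
    ((socle_local_iff O he _).2 (mul_mono_mem_span he hv hy')) (key w hw hx')
  obtain ⟨s, u, rfl⟩ := IsLocalization.exists_mk'_eq (m k H).primeCompl c
  -- replace `c` by a constant
  have hu : u.1.1.coeff 0 ≠ 0 := u.2
  set c₀ : k := s.1.coeff 0 / u.1.1.coeff 0 with hc₀
  have h1 : s - algebraMap k (S k H) c₀ * u ∈ m k H := by
    rw [mem_m]
    change (s.1 - C c₀ * u.1.1).coeff 0 = 0
    rw [coeff_sub, coeff_C_mul, hc₀, div_mul_cancel₀ _ hu, sub_self]
  have h2 : (s - algebraMap k (S k H) c₀ * u) * mono k hw ∈ Ideal.span {mono k he} :=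
    mul_mono_mem_span he hw hx' _ h1
  have h3 : mono k hv - algebraMap k (S k H) c₀ * mono k hw ∈ Ideal.span {mono k he} := by
    rw [← algebraMap_mem_span_iff O, map_sub, map_mul]
    have h4 : algebraMap (S k H) O (algebraMap k (S k H) c₀) =
        IsLocalization.mk' O s u - IsLocalization.mk' O 1 u * algebraMap (S k H) O
          (s - algebraMap k (S k H) c₀ * u) := by
      have h5 : IsLocalization.mk' O (1 : S k H) u * algebraMap (S k H) O u = 1 := by
        rw [IsLocalization.mk'_spec, map_one]
      rw [map_sub, map_mul, mul_sub, IsLocalization.mk'_eq_mul_mk'_one s u]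
      linear_combination (-(algebraMap (S k H) O (algebraMap k (S k H) c₀))) * h5
    rw [h4, sub_mul]
    have h6 := (algebraMap_mem_span_iff O he _).2 h2
    rw [map_mul] at h6
    have h7 := Ideal.mul_mem_left _ (IsLocalization.mk' O (1 : S k H) u) h6
    rw [← mul_assoc] at h7
    have h8 := Ideal.add_mem _ hc h7
    convert h8 using 1
    ring
  rw [mem_span_mono_iff] at h3
  by_contra hne'
  have hvw : v ≠ w := fun h => hne' (by rw [h] at hve; omega)
  obtain ⟨h', hh', hh⟩ := h3 v (by
    change (X ^ v - C c₀ * X ^ w : k[X]).coeff v ≠ 0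
    rw [coeff_sub, coeff_C_mul, coeff_X_pow, coeff_X_pow, if_pos rfl, if_neg hvw, mul_zero,
      sub_zero]
    exact one_ne_zero)
  exact hy'.1 ⟨h', hh', by omega⟩

/-- A unique pseudo-Frobenius number implies Gorenstein at the homogeneous maximal ideal. -/
theorem gor_of_PF_unique (k : Type u) [Field k] {H : AddSubmonoid ℕ} (O : Type u) [CommRing O]
    [IsLocalRing O] [Algebra (S k H) O] [IsLocalization.AtPrime O (m k H)] {e : ℕ} (he : e ∈ H) (h0 : e ≠ 0)
    (huniq : ∀ x y, PF H x → PF H y → x = y) : LocCoh.IsGorensteinLocalRing O := by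
  have hN : IsNoetherianRing (S k H) := isNoetherianRing he h0
  have hNO : IsNoetherianRing O := IsLocalization.isNoetherianRing (m k H).primeCompl O hN
  have hdom : IsDomain O :=
    IsLocalization.isDomain_of_le_nonZeroDivisors O (Ideal.primeCompl_le_nonZeroDivisors (m k H))
  have hdim : Ring.KrullDimLE 1 O := by
    rw [Ring.krullDimLE_iff]
    exact_mod_cast ringKrullDim_le k O he h0
  have hinj : Function.Injective (algebraMap (S k H) O) :=
    IsLocalization.injective O (Ideal.primeCompl_le_nonZeroDivisors (m k H))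
  have hne : mono k he ≠ 0 := fun h => by
    have := congrArg Subtype.val h
    exact pow_ne_zero e X_ne_zero this
  have hfm : algebraMap (S k H) O (mono k he) ∈ maximalIdeal O := by
    rw [IsLocalization.AtPrime.to_map_mem_maximal_iff O (m k H), mem_m, mono_val, coeff_X_pow,
      if_neg (fun h => h0 h.symm)]
  refine CurvesB.GorDimOne.isGorensteinLocalRing_of_simpleSocleMod hfm
    (mem_nonZeroDivisors_of_ne_zero (fun h => hne (hinj (by rw [h, map_zero])))) ?_
  intro x y hx hy
  obtain ⟨a, u, rfl⟩ := IsLocalization.exists_mk'_eq (m k H).primeCompl x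
  obtain ⟨b, v, rfl⟩ := IsLocalization.exists_mk'_eq (m k H).primeCompl y
  -- pass to `a`, `b`
  have hto : ∀ (a : S k H) (u : (m k H).primeCompl),
      (∀ t ∈ maximalIdeal O, t * IsLocalization.mk' O a u ∈
        Ideal.span {algebraMap (S k H) O (mono k he)}) →
      ∀ t ∈ m k H, t * a ∈ Ideal.span {mono k he} := by
    intro a u h
    refine (socle_local_iff O he a).1 fun t ht => ?_
    have h1 := Ideal.mul_mem_left _ (algebraMap (S k H) O u) (h t ht)
    have h2 : algebraMap (S k H) O u * (t * IsLocalization.mk' O a u) =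
        t * algebraMap (S k H) O a := by
      rw [mul_left_comm, IsLocalization.mk'_spec']
    rwa [h2] at h1
  have ha := hto a u hx
  have hb := hto b v hy
  by_cases haf : a ∈ Ideal.span {mono k he}
  · left
    rw [IsLocalization.mk'_eq_mul_mk'_one]
    exact Ideal.mul_mem_right _ _ ((algebraMap_mem_span_iff O he a).2 haf)
  · right
    rw [mem_span_mono_iff] at haf
    push Not at haf
    obtain ⟨n, hn, hn'⟩ := haf
    have hPF : PF H ((n : ℤ) - e) := (socle_coeff he a ha n hn).resolve_left
      (fun ⟨h, hh, hhe⟩ => hn' h hh hhe)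
    -- `b - (b_n / a_n) a ∈ (X ^ e)`
    have h1 : b - algebraMap k (S k H) (b.1.coeff n / a.1.coeff n) * a ∈
        Ideal.span {mono k he} := by
      rw [mem_span_mono_iff]
      intro l hl
      have hl' : b.1.coeff l - b.1.coeff n / a.1.coeff n * a.1.coeff l ≠ 0 := by
        have : (b - algebraMap k (S k H) (b.1.coeff n / a.1.coeff n) * a : S k H).1 =
          b.1 - C (b.1.coeff n / a.1.coeff n) * a.1 := rfl
        rwa [this, coeff_sub, coeff_C_mul] at hl
      have hln : l ≠ n := by
        rintro rfl
        rw [div_mul_cancel₀ _ hn, sub_self] at hl'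
        exact hl' rfl
      have hcase : b.1.coeff l ≠ 0 ∨ a.1.coeff l ≠ 0 := by
        by_contra hcon
        push Not at hcon
        rw [hcon.1, hcon.2, mul_zero, sub_zero] at hl'
        exact hl' rfl
      have hres : (∃ h ∈ H, l = e + h) ∨ PF H ((l : ℤ) - e) := by
        rcases hcase with h | h
        · exact socle_coeff he b hb l h
        · exact socle_coeff he a ha l h
      rcases hres with h | h
      · exact h
      · exact absurd (huniq _ _ h hPF) (by omega)
    have h2 := (algebraMap_mem_span_iff O he _).2 h1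
    rw [map_sub, map_mul] at h2
    refine ⟨IsLocalization.mk' O 1 v * algebraMap (S k H) O
      (algebraMap k (S k H) (b.1.coeff n / a.1.coeff n)) * algebraMap (S k H) O u, ?_⟩
    have h3 := Ideal.mul_mem_left _ (IsLocalization.mk' O (1 : S k H) v) h2
    convert h3 using 1
    rw [mul_sub, IsLocalization.mk'_eq_mul_mk'_one b v, mul_assoc _ _ (IsLocalization.mk' O a u),
      IsLocalization.mk'_spec']
    ring

/-- Gorenstein at the other primes. -/
theorem gor_other {N : ℕ} (hN : ∀ n, N ≤ n → n ∈ H) (p : Ideal (S k H)) [hp : p.IsPrime]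
    (hpm : p ≠ m k H) : LocCoh.IsGorensteinLocalRing (Localization.AtPrime p) := by
  have h1 : ∃ h : ℕ, ∃ hh : h ∈ H, h ≠ 0 ∧ mono k hh ∉ p := by
    by_contra hcon
    push Not at hcon
    have hle : m k H ≤ p := by
      intro a ha
      have : a = ∑ n ∈ a.1.support.attach, algebraMap k (S k H) (a.1.coeff n.1) *
          mono k (a.2 n.1 (mem_support_iff.1 n.2)) := by
        apply Subtype.ext
        rw [AddSubmonoidClass.coe_finsetSum]
        have h2 : ∀ n : a.1.support, (algebraMap k (S k H) (a.1.coeff n.1) *
            mono k (a.2 n.1 (mem_support_iff.1 n.2)) : S k H).1 =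
              (fun n : ℕ => C (a.1.coeff n) * X ^ n) n.1 := fun n => rfl
        rw [Finset.sum_congr rfl fun n _ => h2 n,
          Finset.sum_attach a.1.support (fun n : ℕ => C (a.1.coeff n) * X ^ n)]
        exact a.1.as_sum_support_C_mul_X_pow
      rw [this]
      refine Ideal.sum_mem _ fun n _ => Ideal.mul_mem_left _ _ (hcon _ _ ?_)
      intro h0
      have h3 := mem_support_iff.1 n.2
      rw [h0] at h3
      exact h3 ha
    exact hpm ((isMaximal_m.eq_of_le hp.ne_top hle).symm)
  obtain ⟨h, hh, h0, hhp⟩ := h1
  have hB : LocCoh.IsGorensteinRing k[X] := LoccohA.GorBC.isGorensteinRing_of_isPrincipalIdealRing _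
  refine gor_of_sub algebraMap_injective (mono k hh) (fun h => hhp (by rw [h]; exact p.zero_mem))
    (fun b => ⟨N, ⟨X ^ (h * N) * b, fun n hn => hN n ?_⟩, ?_⟩) hB p hhp
  · rw [coeff_X_pow_mul'] at hn
    split_ifs at hn with h1
    · have : N ≤ h * N := Nat.le_mul_of_pos_left N (Nat.pos_of_ne_zero h0)
      omega
    · exact absurd rfl hn
  · change X ^ (h * N) * b = (X ^ h) ^ N * b
    rw [pow_mul]

/-- The semigroup ring of a numerical semigroup is Gorenstein iff the semigroup is symmetric. -/
theorem isGorensteinRing_iff {N : ℕ} (hN : ∀ n, N ≤ n → n ∈ H) :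
    LocCoh.IsGorensteinRing (S k H) ↔ W4c6gradedringsgw.IsSymmetric (H : Set ℕ) := by
  have he : N + 1 ∈ H := hN _ (by omega)
  have h0 : N + 1 ≠ 0 := by omega
  rw [isSymmetric_iff hN]
  constructor
  · intro h
    exact PF_unique k (Localization.AtPrime (m k H)) he h0 (h.isGorensteinLocalRing_localization (m k H))
  · intro h
    have hNo : IsNoetherianRing (S k H) := isNoetherianRing he h0
    refine { isGorensteinLocalRing_localization := fun p hp => ?_ }
    by_cases hpm : p = m k H
    · subst hpm
      exact gor_of_PF_unique k (Localization.AtPrime (m k H)) he h0 h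
    · exact gor_other hN p hpm

end K960.GorSemi
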