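import Groth.Agent.GrSect.K960.Gens
import Groth.Agent.GrSect.K960.GorSemi
import Groth.Agent.S0342
import Mathlib.RingTheory.DedekindDomain.Dvr
import Mathlib.Algebra.Polynomial.Lifts

/-!
# The section ring of a point is Gorenstein iff the Weierstrass semigroup is symmetric
-/

set_option autoImplicit false
universe u

namespace K960.GorSect

open Polynomial FunFld WithZero K960.Sect K960.SemiRing K960.SectRing Groth.Agent
open IsDedekindDomain

/-- A Dedekind domain is Gorenstein. -/
theorem isGorensteinRing_of_isDedekindDomain (B : Type u) [CommRing B] [IsDedekindDomain B] :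
    LocCoh.IsGorensteinRing B := by
  refine { isGorensteinLocalRing_localization := fun p hp => ?_ }
  by_cases hp0 : p = ⊥
  · subst hp0
    have hdom : IsDomain (Localization.AtPrime (⊥ : Ideal B)) :=
      IsLocalization.isDomain_localization (Ideal.primeCompl_le_nonZeroDivisors ⊥)
    have hbot : IsLocalRing.maximalIdeal (Localization.AtPrime (⊥ : Ideal B)) = ⊥ := by
      rw [← Localization.AtPrime.map_eq_maximalIdeal, Ideal.map_bot]
    exact S0342.gorenstein_of_maximalIdeal_eq_bot _ hbot
  · have hdom : IsDomain (Localization.AtPrime p) :=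
      IsLocalization.isDomain_localization (Ideal.primeCompl_le_nonZeroDivisors p)
    have hdvr : IsDiscreteValuationRing (Localization.AtPrime p) :=
      IsLocalization.AtPrime.isDiscreteValuationRing_of_dedekind_domain B hp0 _
    have hreg : IsRegularLocalRing (Localization.AtPrime p) := inferInstance
    exact S0342.result _

/-- If `R / f` is Gorenstein for a nonzerodivisor `f` then `R` is Gorenstein at the primes
containing `f`. -/
theorem gor_at_of_quotient {R : Type u} [CommRing R] [IsNoetherianRing R] (f : R)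
    (hf : IsSMulRegular R f) (h : LocCoh.IsGorensteinRing (R ⧸ Ideal.span {f})) (q : Ideal R)
    [hq : q.IsPrime] (hfq : f ∈ q) : LocCoh.IsGorensteinLocalRing (Localization.AtPrime q) := by
  have hle : Ideal.span {f} ≤ q := (Ideal.span_singleton_le_iff_mem _).2 hfq
  set q' := q.map (Ideal.Quotient.mk (Ideal.span {f})) with hq'
  have hq'p : q'.IsPrime :=
    Ideal.map_isPrime_of_surjective Ideal.Quotient.mk_surjective (by rwa [Ideal.mk_ker])
  have hcomap : q'.comap (Ideal.Quotient.mk (Ideal.span {f})) = q := by
    rw [hq', Ideal.comap_map_of_surjective' _ Ideal.Quotient.mk_surjective, Ideal.mk_ker]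
    exact sup_eq_left.2 hle
  have h1 : Algebra.algebraMapSubmonoid (R ⧸ Ideal.span {f}) q.primeCompl = q'.primeCompl := by
    ext x
    constructor
    · rintro ⟨y, hy, rfl⟩
      intro h2
      apply hy
      change y ∈ q
      rw [← hcomap]
      exact h2
    · intro hx
      obtain ⟨y, rfl⟩ := Ideal.Quotient.mk_surjective x
      refine ⟨y, fun h2 => hx ?_, rfl⟩
      exact Ideal.mem_map_of_mem _ h2
  have h2 : IsLocalization (Algebra.algebraMapSubmonoid (R ⧸ Ideal.span {f}) q.primeCompl)
      (Localization.AtPrime q ⧸ (Ideal.span {f}).map (algebraMap R (Localization.AtPrime q))) :=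
    inferInstance
  rw [h1] at h2
  have hreg : IsSMulRegular (Localization.AtPrime q) (algebraMap R (Localization.AtPrime q) f) :=
    IsSMulRegular.of_isLocalization (Localization.AtPrime q) q.primeCompl hf
  refine (S0343.result (Localization.AtPrime q) (algebraMap R (Localization.AtPrime q) f)
    ((IsLocalization.AtPrime.to_map_mem_maximal_iff _ q f).2 hfq) hreg).2 ?_
  refine LoccohA.GorBC.isGorensteinLocalRing_of_ringEquiv ?_
    (h.isGorensteinLocalRing_localization q')
  refine RingEquiv.symm ((Ideal.quotEquivOfEq (by rw [Ideal.map_span, Set.image_singleton])).trans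
    (IsLocalization.algEquiv q'.primeCompl
      (Localization.AtPrime q ⧸ (Ideal.span {f}).map (algebraMap R (Localization.AtPrime q)))
      (Localization.AtPrime q')).toRingEquiv)

variable {k K : Type u} [Field k] [Field K] [Algebra k K] {P : Place k K}

attribute [local instance] K660.Places.instDed K660.Places.instFrac

/-- elements of the integral closure of `k[t]` are those integral at the places with `t`
integral. -/
theorem mem_integralClosure_iff {t : K} [h : Fact (K660.Places.IsGen k K t)] (x : K) :
    x ∈ integralClosure (Algebra.adjoin k {t}) K ↔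
      ∀ Q : Place k K, Q.1 t ≤ 1 → Q.1 x ≤ 1 := by
  constructor
  · intro hx Q hQ
    exact K660.Places.val_le_one_of_isIntegral Q (K660.Places.val_adjoin_le Q hQ) hx
  · intro hx
    obtain ⟨y, hy⟩ := HeightOneSpectrum.mem_integers_of_valuation_le_one
      (R := integralClosure (Algebra.adjoin k {t}) K) K x (fun v =>
        hx (K660.Places.ofPrime v) (K660.Places.ofPrime_gen_le v))
    rw [← hy]
    exact y.2

variable (P) in
/-- polynomials whose coefficients are integral away from `P`. -/
def Bsub : Subring K[X] where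
  carrier := {p | ∀ n, ∀ Q : Place k K, Q ≠ P → Q.1 (p.coeff n) ≤ 1}
  mul_mem' {p q} hp hq n Q hQ := by
    rw [coeff_mul]
    refine Q.1.map_sum_le fun x _ => ?_
    rw [map_mul]
    exact mul_le_one' (hp _ Q hQ) (hq _ Q hQ)
  one_mem' n Q hQ := by
    rw [coeff_one]
    split_ifs
    · rw [map_one]
    · rw [map_zero]; exact zero_le_one
  add_mem' {p q} hp hq n Q hQ := by
    rw [coeff_add]
    exact (Q.1.map_add _ _).trans (max_le (hp n Q hQ) (hq n Q hQ))
  zero_mem' n Q hQ := by rw [coeff_zero, map_zero]; exact zero_le_one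
  neg_mem' {p} hp n Q hQ := by rw [coeff_neg, Valuation.map_neg]; exact hp n Q hQ

theorem mem_Bsub {p : K[X]} : p ∈ Bsub P ↔
    ∀ n, ∀ Q : Place k K, Q ≠ P → Q.1 (p.coeff n) ≤ 1 := Iff.rfl

theorem R_le_Bsub : (R P).toSubring ≤ Bsub P := fun _ hp n Q hQ =>
  ((mem_L_zsmul_iff P _ _).1 (hp n)).2 Q hQ

variable [IsAlgClosed k] (hK : IsFunctionField k K)

include hK

/-- the ring of polynomials over the ring of functions regular away from `P` is Gorenstein. -/
theorem isGorensteinRing_Bsub : LocCoh.IsGorensteinRing (Bsub P) := by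
  obtain ⟨N, hN⟩ := exists_forall_mem_WS hK P
  obtain ⟨t, ht, htv⟩ := hN (N + 1) (by omega)
  rw [mem_L_zsmul_iff] at ht
  have hord : P.ord t ≠ 0 := by
    rw [K660.Ord.ord_eq_of_val P htv]
    push_cast
    omega
  have htr : Transcendental k t := K660.LowGenus.transcendental_of_ord_ne_zero P hord
  have hF : Fact (K660.Places.IsGen k K t) := ⟨K660.Places.isGen_of_transcendental hK htr⟩
  have hPt : ¬ P.1 t ≤ 1 := by
    rw [htv, ← exp_zero, exp_le_exp]
    push_cast
    omega
  have hmem : ∀ x : K, x ∈ integralClosure (Algebra.adjoin k {t}) K ↔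
      ∀ Q : Place k K, Q ≠ P → Q.1 x ≤ 1 := by
    intro x
    rw [mem_integralClosure_iff]
    constructor
    · intro h Q hQ
      exact h Q (ht.2 Q hQ)
    · intro h Q hQ
      refine h Q ?_
      rintro rfl
      exact hPt hQ
  let ι := mapRingHom (algebraMap (integralClosure (Algebra.adjoin k {t}) K) K)
  have hι : Function.Injective ι := map_injective _ (FaithfulSMul.algebraMap_injective _ _)
  have h1 : ∀ q, ι q ∈ Bsub P := by
    intro q n Q hQ
    change Q.1 ((map (algebraMap (integralClosure (Algebra.adjoin k {t}) K) K) q).coeff n) ≤ 1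
    rw [coeff_map]
    exact (hmem _).1 (q.coeff n).2 Q hQ
  let ι' := ι.codRestrict (Bsub P) h1
  have hι' : Function.Bijective ι' := by
    refine ⟨fun a b hab => hι (congrArg Subtype.val hab), fun p => ?_⟩
    have h2 : p.1 ∈ lifts (algebraMap (integralClosure (Algebra.adjoin k {t}) K) K) := by
      rw [lifts_iff_coeff_lifts]
      intro n
      exact ⟨⟨p.1.coeff n, (hmem _).2 (p.2 n)⟩, rfl⟩
    obtain ⟨q, hq⟩ := (mem_lifts _).1 h2
    exact ⟨q, Subtype.ext hq⟩
  have e : (integralClosure (Algebra.adjoin k {t}) K)[X] ≃+* Bsub P :=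
    RingEquiv.ofBijective ι' hι'
  exact LoccohA.GorBC.isGorensteinRing_of_ringEquiv e
    (LoccohA.GorBC.isGorensteinRing_polynomial (isGorensteinRing_of_isDedekindDomain _))

omit [IsAlgClosed k] hK in
theorem exists_pow_mul_mem (b : Bsub P) : ∃ n : ℕ, X ^ n * b.1 ∈ R P := by
  classical
  let n := b.1.support.sup fun i => (log (P.1 (b.1.coeff i))).toNat
  refine ⟨n, fun m => ?_⟩
  rw [mem_L_zsmul_iff, coeff_X_pow_mul']
  split_ifs with h
  · refine ⟨?_, fun Q hQ => b.2 _ Q hQ⟩
    by_cases h0 : b.1.coeff (m - n) = 0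
    · rw [h0, map_zero]; exact zero_le
    · have h1 : (log (P.1 (b.1.coeff (m - n)))).toNat ≤ n :=
        Finset.le_sup (f := fun i => (log (P.1 (b.1.coeff i))).toNat) (mem_support_iff.2 h0)
      rw [K660.Ord.le_exp_iff (K660.Ord.val_ne_zero P h0)]
      omega
  · rw [map_zero]
    exact ⟨zero_le, fun Q _ => by rw [map_zero]; exact zero_le_one⟩

/-- The section ring of a point is Gorenstein iff the Weierstrass semigroup is symmetric. -/
theorem isGorensteinRing_iff : LocCoh.IsGorensteinRing (R P) ↔
    W4c6gradedringsgw.IsSymmetric (WS P : Set ℕ) := by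
  obtain ⟨N, hN⟩ := exists_forall_mem_WS hK P
  have hNoeth : IsNoetherianRing (R P) := K960.Gens.isNoetherianRing hK
  have hne : XR P ≠ 0 := (prime_XR hK).ne_zero
  have hreg : IsSMulRegular (R P) (XR P) := IsSMulRegular.of_ne_zero hne
  rw [← K960.GorSemi.isGorensteinRing_iff (k := k) hN]
  constructor
  · intro h
    exact LoccohA.GorBC.isGorensteinRing_of_ringEquiv (quotEquiv hK).toRingEquiv
      (LoccohA.GorBC.isGorensteinRing_quotient_span_singleton h (XR P) hreg)
  · intro h
    have hq : LocCoh.IsGorensteinRing (R P ⧸ Ideal.span {XR P}) :=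
      LoccohA.GorBC.isGorensteinRing_of_ringEquiv (quotEquiv hK).symm.toRingEquiv h
    refine { isGorensteinLocalRing_localization := fun p hp => ?_ }
    by_cases hXp : XR P ∈ p
    · exact gor_at_of_quotient (XR P) hreg hq p hXp
    · let i : R P →+* Bsub P := Subring.inclusion (R_le_Bsub (P := P))
      let := i.toAlgebra
      refine K960.GorSemi.gor_of_sub (R := R P) (B := Bsub P)
        (fun a b hab => Subtype.ext (congrArg Subtype.val hab :)) (XR P) hne ?_
        (isGorensteinRing_Bsub hK) p hXp
      intro b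
      obtain ⟨n, hn⟩ := exists_pow_mul_mem b
      refine ⟨n, ⟨_, hn⟩, ?_⟩
      apply Subtype.ext
      change X ^ n * b.1 = ((i (XR P)) ^ n * b : Bsub P).1
      rw [MulMemClass.coe_mul, SubmonoidClass.coe_pow]
      change _ = (XR P).1 ^ n * b.1
      rw [XR_val]

end K960.GorSect
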