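import Groth.Agent.GrSect.K960.Semi
import Mathlib.RingTheory.Ideal.GoingUp
import Mathlib.RingTheory.Adjoin.Tower
import Mathlib.RingTheory.KrullDimension.Basic
import Mathlib.RingTheory.Polynomial.Basic
import Mathlib.RingTheory.Localization.AtPrime.Basic
import Mathlib.RingTheory.Localization.Ideal
import Mathlib.RingTheory.Ideal.Height
import Mathlib.RingTheory.FiniteType

/-!
# The semigroup ring of a numerical semigroup as a subalgebra of `k[X]`
-/

set_option autoImplicit false
universe u

namespace K960.SemiRing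

open Polynomial K960.Semi

variable (k : Type u) [Field k] (H : AddSubmonoid ℕ)

/-- the semigroup ring `k[H] ⊆ k[X]`. -/
def S : Subalgebra k k[X] where
  carrier := {p | ∀ n, p.coeff n ≠ 0 → n ∈ H}
  mul_mem' {p q} hp hq n hn := by
    rw [coeff_mul] at hn
    obtain ⟨x, hx, hx'⟩ := Finset.exists_ne_zero_of_sum_ne_zero hn
    rw [← Finset.mem_antidiagonal.1 hx]
    exact H.add_mem (hp _ (left_ne_zero_of_mul hx')) (hq _ (right_ne_zero_of_mul hx'))
  add_mem' {p q} hp hq n hn := by
    rw [coeff_add] at hn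
    by_cases h : p.coeff n = 0
    · rw [h, zero_add] at hn; exact hq n hn
    · exact hp n h
  algebraMap_mem' c n hn := by
    rw [algebraMap_apply, coeff_C] at hn
    split_ifs at hn with h
    · rw [h]; exact H.zero_mem
    · exact absurd rfl hn

variable {k H}

theorem mem_S {p : k[X]} : p ∈ S k H ↔ ∀ n, p.coeff n ≠ 0 → n ∈ H := Iff.rfl

theorem mem_of_coeff (a : S k H) {n : ℕ} (hn : a.1.coeff n ≠ 0) : n ∈ H := a.2 n hn

variable (k) in
/-- the monomial `X ^ h` -/
noncomputable def mono {h : ℕ} (hh : h ∈ H) : S k H := ⟨X ^ h, fun n hn => by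
  rw [coeff_X_pow] at hn
  split_ifs at hn with h1
  · rwa [h1]
  · exact absurd rfl hn⟩

@[simp] theorem mono_val {h : ℕ} (hh : h ∈ H) : (mono k hh : S k H).1 = X ^ h := rfl

variable (k H) in
/-- the augmentation `k[H] → k`. -/
noncomputable def aug : S k H →+* k := (constantCoeff (R := k)).comp (S k H).val.toRingHom

theorem aug_apply (a : S k H) : aug k H a = a.1.coeff 0 := rfl

variable (k H) in
/-- the homogeneous maximal ideal -/
noncomputable def m : Ideal (S k H) := RingHom.ker (aug k H)

theorem mem_m {a : S k H} : a ∈ m k H ↔ a.1.coeff 0 = 0 := Iff.rfl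

theorem aug_surjective : Function.Surjective (aug k H) := fun c =>
  ⟨algebraMap k _ c, by rw [aug_apply]; exact coeff_C_zero⟩

instance isMaximal_m : (m k H).IsMaximal :=
  RingHom.ker_isMaximal_of_surjective _ aug_surjective

/-- criterion for membership in the principal ideal `(X ^ e)`. -/
theorem mem_span_mono_iff {e : ℕ} (he : e ∈ H) (a : S k H) :
    a ∈ Ideal.span {mono k he} ↔ ∀ n, a.1.coeff n ≠ 0 → ∃ h ∈ H, n = e + h := by
  rw [Ideal.mem_span_singleton']
  constructor
  · rintro ⟨b, rfl⟩ n hn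
    have h1 : (b * mono k he : S k H).1 = b.1 * X ^ e := rfl
    rw [h1, coeff_mul_X_pow'] at hn
    split_ifs at hn with h2
    · exact ⟨n - e, b.2 _ hn, by omega⟩
    · exact absurd rfl hn
  · intro h
    have h1 : X ^ e ∣ a.1 := by
      rw [X_pow_dvd_iff]
      intro d hd
      by_contra hcon
      obtain ⟨h', _, rfl⟩ := h d hcon
      omega
    obtain ⟨b, hb⟩ := h1
    refine ⟨⟨b, fun n hn => ?_⟩, ?_⟩
    · have h2 : a.1.coeff (n + e) ≠ 0 := by
        rw [hb, mul_comm, coeff_mul_X_pow]; exact hn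
      obtain ⟨h', hh', he'⟩ := h _ h2
      have : n = h' := by omega
      rwa [this]
    · apply Subtype.ext
      change b * X ^ e = a.1
      rw [hb, mul_comm]

/-- contraction from the localization at the maximal ideal. -/
theorem contract {e : ℕ} (he : e ∈ H) (u a : S k H) (hu : u ∉ m k H)
    (h : u * a ∈ Ideal.span {mono k he}) : a ∈ Ideal.span {mono k he} := by
  rw [mem_span_mono_iff] at h ⊢
  intro n
  induction n using Nat.strong_induction_on with
  | _ n ih =>
    intro hn
    by_cases h0 : (u * a : S k H).1.coeff n = 0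
    · have h1 : (u * a : S k H).1 = u.1 * a.1 := rfl
      rw [h1, coeff_mul, ← Finset.add_sum_erase _ _ (a := (0, n)) (by simp)] at h0
      have h2 : u.1.coeff 0 * a.1.coeff n ≠ 0 := mul_ne_zero hu hn
      have h3 : ∑ x ∈ (Finset.antidiagonal n).erase (0, n), u.1.coeff x.1 * a.1.coeff x.2 ≠ 0 := by
        intro h3
        rw [h3, add_zero] at h0
        exact h2 h0
      obtain ⟨⟨i, j⟩, hx, hx'⟩ := Finset.exists_ne_zero_of_sum_ne_zero h3
      rw [Finset.mem_erase, Finset.mem_antidiagonal] at hx
      simp only at hx hx'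
      have hi : i ≠ 0 := by
        rintro rfl
        apply hx.1
        rw [← hx.2, zero_add]
      obtain ⟨h', hh', he'⟩ := ih j (by omega) (right_ne_zero_of_mul hx')
      have hiH : i ∈ H := u.2 i (left_ne_zero_of_mul hx')
      exact ⟨i + h', H.add_mem hiH hh', by omega⟩
    · exact h n h0

/-- elements of the socle modulo `X ^ e` are supported in `e + PF` modulo `(X ^ e)`. -/
theorem socle_coeff {e : ℕ} (he : e ∈ H) (a : S k H)
    (ha : ∀ t ∈ m k H, t * a ∈ Ideal.span {mono k he}) (n : ℕ) (hn : a.1.coeff n ≠ 0) :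
    (∃ h ∈ H, n = e + h) ∨ PF H ((n : ℤ) - e) := by
  by_cases h0 : ∃ h ∈ H, n = e + h
  · exact Or.inl h0
  · refine Or.inr ⟨?_, fun h hh h1 => ?_⟩
    · rintro ⟨h', hh', he'⟩
      exact h0 ⟨h', hh', by omega⟩
    · have h2 := ha (mono k hh) (by
        rw [mem_m, mono_val, coeff_X_pow, if_neg (fun h => h1 h.symm)])
      rw [mem_span_mono_iff] at h2
      obtain ⟨h', hh', he'⟩ := h2 (n + h) (by
        have : (mono k hh * a : S k H).1 = X ^ h * a.1 := rfl
        rw [this, mul_comm, coeff_mul_X_pow]; exact hn)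
      exact ⟨h', hh', by omega⟩

/-- the monomial of a pseudo-Frobenius number is in the socle modulo `X ^ e`. -/
theorem mul_mono_mem_span {e : ℕ} (he : e ∈ H) {w : ℕ} (hw : w ∈ H) (hPF : PF H ((w : ℤ) - e))
    (t : S k H) (ht : t ∈ m k H) : t * mono k hw ∈ Ideal.span {mono k he} := by
  rw [mem_span_mono_iff]
  intro n hn
  have : (t * mono k hw : S k H).1 = t.1 * X ^ w := rfl
  rw [this, coeff_mul_X_pow'] at hn
  split_ifs at hn with h1
  · have h2 : n - w ∈ H := t.2 _ hn
    have h3 : n - w ≠ 0 := fun h => by rw [h] at hn; exact hn ht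
    obtain ⟨h', hh', he'⟩ := hPF.2 _ h2 h3
    exact ⟨h', hh', by omega⟩
  · exact absurd rfl hn

section dim

/-- `k[X]` is integral over `k[H]` when `H` contains a nonzero element. -/
theorem isIntegral {e : ℕ} (he : e ∈ H) (h0 : e ≠ 0) : Algebra.IsIntegral (S k H) k[X] := by
  have hX : IsIntegral (S k H) (X : k[X]) := by
    refine ⟨X ^ e - C (mono k he), monic_X_pow_sub_C _ h0, ?_⟩
    rw [eval₂_sub, eval₂_pow, eval₂_X, eval₂_C]
    exact sub_self _
  refine ⟨fun p => ?_⟩
  induction p using Polynomial.induction_on' with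
  | add p q hp hq => exact hp.add hq
  | monomial n c =>
    rw [← C_mul_X_pow_eq_monomial]
    refine IsIntegral.mul ?_ (hX.pow n)
    exact isIntegral_algebraMap (R := S k H) (A := k[X]) (x := algebraMap k (S k H) c)

theorem algebraMap_injective : Function.Injective (algebraMap (S k H) k[X]) :=
  Subtype.val_injective

theorem krullDimLE {e : ℕ} (he : e ∈ H) (h0 : e ≠ 0) : Ring.KrullDimLE 1 (S k H) := by
  have := isIntegral (k := k) he h0
  refine Ring.KrullDimLE.mk₁' fun I hI hp => ?_
  obtain ⟨Q, -, hQ, hQI⟩ := Ideal.exists_ideal_over_prime_of_isIntegral (S := k[X]) I ⊥ (by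
    rw [← RingHom.ker_eq_comap_bot, (RingHom.injective_iff_ker_eq_bot _).1 algebraMap_injective]
    exact bot_le)
  have hQ0 : Q ≠ ⊥ := by
    rintro rfl
    apply hI
    rw [← hQI, ← RingHom.ker_eq_comap_bot,
      (RingHom.injective_iff_ker_eq_bot _).1 algebraMap_injective]
  have : Q.IsMaximal := IsPrime.to_maximal_ideal hQ0
  rw [← hQI]
  exact Ideal.isMaximal_comap_of_isIntegral_of_isMaximal Q

theorem finiteType {e : ℕ} (he : e ∈ H) (h0 : e ≠ 0) : Algebra.FiniteType k (S k H) := by
  have := isIntegral (k := k) he h0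
  have h1 : Algebra.FiniteType k k[X] := inferInstance
  have h2 : Algebra.FiniteType (S k H) k[X] := Algebra.FiniteType.of_restrictScalars_finiteType k _ _
  have h3 : Module.Finite (S k H) k[X] := Algebra.IsIntegral.finite
  exact ⟨fg_of_fg_of_fg k (S k H) k[X] h1.1 h3.1 algebraMap_injective⟩

theorem isNoetherianRing {e : ℕ} (he : e ∈ H) (h0 : e ≠ 0) : IsNoetherianRing (S k H) := by
  have := finiteType (k := k) he h0
  exact Algebra.FiniteType.isNoetherianRing k _

end dim

end K960.SemiRing
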