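import Groth.Agent.FunFld.K660.LowGenus
import Groth.Agent.FunFld.K666.Basic
import Groth.Agent.GrSect.K960.SemiRing
import Mathlib.FieldTheory.IsAlgClosed.Basic

/-!
# The section ring of a point of a curve: leading coefficients and the Weierstrass semigroup
-/

set_option autoImplicit false
universe u

namespace K960.Sect

open Polynomial FunFld WithZero K660.Ord K660.Compare

section basic

variable {k K : Type u} [Field k] [Field K] [Algebra k K]

/-- the spaces `L(n P)`. -/
theorem mem_L_zsmul_iff (P : Place k K) (n : ℤ) (x : K) :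
    x ∈ L (n • (Finsupp.single P 1 : Divisor k K)) ↔
      P.1 x ≤ exp n ∧ ∀ Q : Place k K, Q ≠ P → Q.1 x ≤ 1 := by
  classical
  constructor
  · intro h
    refine ⟨?_, fun Q hQ => ?_⟩
    · have := h P
      simpa using this
    · have := h Q
      simpa [Finsupp.single_apply, hQ.symm] using this
  · rintro ⟨h1, h2⟩ Q
    by_cases hQ : Q = P
    · subst hQ; simpa using h1
    · have := h2 Q hQ
      simpa [Finsupp.single_apply, Ne.symm hQ] using this

/-- a uniformizer -/
noncomputable def tau (P : Place k K) : K := (exists_unif (P := P)).choose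

theorem val_tau (P : Place k K) : P.1 (tau P) = exp (-1 : ℤ) := (exists_unif (P := P)).choose_spec

theorem val_tau_pow (P : Place k K) (n : ℕ) : P.1 (tau P ^ n) = exp (-(n : ℤ)) := by
  rw [map_pow, val_tau, ← exp_nsmul]
  simp

/-- the leading coefficient of `x` with respect to pole order `n` -/
noncomputable def lc (P : Place k K) (n : ℕ) (x : K) : k := by
  classical
  exact if h : ∃ c : k, P.1 (tau P ^ n * x - algebraMap k K c) < 1 then h.choose else 0

theorem const_unique (P : Place k K) {z : K} {c d : k} (hc : P.1 (z - algebraMap k K c) < 1)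
    (hd : P.1 (z - algebraMap k K d) < 1) : c = d := by
  by_contra hcd
  have h1 : P.1 (algebraMap k K (d - c)) = 1 := val_algebraMap P (sub_ne_zero.2 (Ne.symm hcd))
  have h2 : algebraMap k K (d - c) = (z - algebraMap k K c) - (z - algebraMap k K d) := by
    rw [map_sub]; ring
  have h3 : P.1 (algebraMap k K (d - c)) < 1 := by
    rw [h2]
    exact (P.1.map_sub _ _).trans_lt (max_lt hc hd)
  rw [h1] at h3
  exact lt_irrefl _ h3

theorem lc_eq (P : Place k K) {n : ℕ} {x : K} {c : k}
    (h : P.1 (tau P ^ n * x - algebraMap k K c) < 1) : lc P n x = c := by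
  have h1 : ∃ c : k, P.1 (tau P ^ n * x - algebraMap k K c) < 1 := ⟨c, h⟩
  unfold lc
  rw [dif_pos h1]
  exact const_unique P h1.choose_spec h

theorem lc_zero (P : Place k K) (n : ℕ) : lc P n (0 : K) = 0 :=
  lc_eq P (by rw [mul_zero, map_zero, sub_zero, map_zero]; exact zero_lt_one)

theorem lc_algebraMap (P : Place k K) (c : k) : lc P 0 (algebraMap k K c) = c :=
  lc_eq P (by rw [pow_zero, one_mul, sub_self, map_zero]; exact zero_lt_one)

theorem val_mul_tau_le (P : Place k K) {n : ℕ} {x : K} (hx : P.1 x ≤ exp (n : ℤ)) :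
    P.1 (tau P ^ n * x) ≤ 1 := by
  rw [map_mul, val_tau_pow]
  calc exp (-(n : ℤ)) * P.1 x ≤ exp (-(n : ℤ)) * exp (n : ℤ) := by gcongr
    _ = 1 := by rw [← exp_add]; simp

end basic

section

variable {k K : Type u} [Field k] [IsAlgClosed k] [Field K] [Algebra k K]
variable (hK : IsFunctionField k K) (P : Place k K)

include hK

theorem lc_spec {n : ℕ} {x : K} (hx : P.1 x ≤ exp (n : ℤ)) :
    P.1 (tau P ^ n * x - algebraMap k K (lc P n x)) < 1 := by
  have h : ∃ c : k, P.1 (tau P ^ n * x - algebraMap k K c) < 1 :=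
    K666.Basic.exists_const hK P _ (val_mul_tau_le P hx)
  unfold lc
  rw [dif_pos h]
  exact h.choose_spec

theorem lc_add {n : ℕ} {x y : K} (hx : P.1 x ≤ exp (n : ℤ)) (hy : P.1 y ≤ exp (n : ℤ)) :
    lc P n (x + y) = lc P n x + lc P n y := by
  refine lc_eq P ?_
  have : tau P ^ n * (x + y) - algebraMap k K (lc P n x + lc P n y) =
    (tau P ^ n * x - algebraMap k K (lc P n x)) + (tau P ^ n * y - algebraMap k K (lc P n y)) := by
    rw [map_add]; ring
  rw [this]
  exact (P.1.map_add _ _).trans_lt (max_lt (lc_spec hK P hx) (lc_spec hK P hy))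

theorem lc_mul {m n : ℕ} {x y : K} (hx : P.1 x ≤ exp (m : ℤ)) (hy : P.1 y ≤ exp (n : ℤ)) :
    lc P (m + n) (x * y) = lc P m x * lc P n y := by
  refine lc_eq P ?_
  have : tau P ^ (m + n) * (x * y) - algebraMap k K (lc P m x * lc P n y) =
    (tau P ^ m * x) * (tau P ^ n * y - algebraMap k K (lc P n y)) +
      (tau P ^ m * x - algebraMap k K (lc P m x)) * algebraMap k K (lc P n y) := by
    rw [map_mul]; ring
  rw [this]
  refine (P.1.map_add _ _).trans_lt (max_lt ?_ ?_)
  · rw [map_mul]
    calc P.1 (tau P ^ m * x) * P.1 (tau P ^ n * y - algebraMap k K (lc P n y))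
        ≤ 1 * P.1 (tau P ^ n * y - algebraMap k K (lc P n y)) := by
          gcongr; exact val_mul_tau_le P hx
      _ < 1 := by rw [one_mul]; exact lc_spec hK P hy
  · rw [map_mul]
    calc P.1 (tau P ^ m * x - algebraMap k K (lc P m x)) * P.1 (algebraMap k K (lc P n y))
        ≤ P.1 (tau P ^ m * x - algebraMap k K (lc P m x)) * 1 := by
          gcongr; exact P.2.1 _
      _ < 1 := by rw [mul_one]; exact lc_spec hK P hx

theorem lc_sum {ι : Type*} (s : Finset ι) (n : ℕ) (f : ι → K)
    (hf : ∀ i ∈ s, P.1 (f i) ≤ exp (n : ℤ)) :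
    lc P n (∑ i ∈ s, f i) = ∑ i ∈ s, lc P n (f i) := by
  classical
  induction s using Finset.induction_on with
  | empty => rw [Finset.sum_empty, Finset.sum_empty, lc_zero]
  | insert a s ha ih =>
    rw [Finset.sum_insert ha, Finset.sum_insert ha, lc_add hK P (hf a (Finset.mem_insert_self a s)),
      ih fun i hi => hf i (Finset.mem_insert_of_mem hi)]
    exact P.1.map_sum_le fun i hi => hf i (Finset.mem_insert_of_mem hi)

theorem lc_smul {n : ℕ} {x : K} (c : k) (hx : P.1 x ≤ exp (n : ℤ)) :
    lc P n (algebraMap k K c * x) = c * lc P n x := by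
  have h1 : P.1 (algebraMap k K c) ≤ exp ((0 : ℕ) : ℤ) := by
    rw [Nat.cast_zero, exp_zero]; exact P.2.1 c
  have := lc_mul hK P h1 hx
  rwa [zero_add, lc_algebraMap] at this

theorem lc_eq_zero_iff {n : ℕ} {x : K} (hx : P.1 x ≤ exp (n : ℤ)) :
    lc P n x = 0 ↔ P.1 x ≤ exp ((n : ℤ) - 1) := by
  have hτ : P.1 (tau P ^ n * x) < 1 ↔ P.1 x ≤ exp ((n : ℤ) - 1) := by
    rw [← lt_exp_iff_le, map_mul, val_tau_pow]
    constructor
    · intro h
      calc P.1 x = exp (n : ℤ) * (exp (-(n : ℤ)) * P.1 x) := by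
            rw [← mul_assoc, ← exp_add, add_neg_cancel, exp_zero, one_mul]
        _ < exp (n : ℤ) * 1 := by
            gcongr
            exact exp_pos
        _ = exp (n : ℤ) := mul_one _
    · intro h
      calc exp (-(n : ℤ)) * P.1 x < exp (-(n : ℤ)) * exp (n : ℤ) := by
            gcongr
            exact exp_pos
        _ = 1 := by rw [← exp_add, neg_add_cancel, exp_zero]
  rw [← hτ]
  constructor
  · intro h
    have := lc_spec hK P hx
    rwa [h, map_zero, sub_zero] at this
  · intro h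
    exact lc_eq P (by rwa [map_zero, sub_zero])

theorem lc_ne_zero_iff {n : ℕ} {x : K} (hx : P.1 x ≤ exp (n : ℤ)) :
    lc P n x ≠ 0 ↔ P.1 x = exp (n : ℤ) := by
  rw [Ne, lc_eq_zero_iff hK P hx, ← lt_exp_iff_le, not_lt]
  exact ⟨fun h => le_antisymm hx h, fun h => h.ge⟩

end

section semigroup

variable {k K : Type u} [Field k] [Field K] [Algebra k K]

/-- The Weierstrass semigroup, as a submonoid of `ℕ`. -/
def WS (P : Place k K) : AddSubmonoid ℕ where
  carrier := {n | ∃ x ∈ L ((n : ℤ) • (Finsupp.single P 1 : Divisor k K)), P.1 x = exp (n : ℤ)}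
  zero_mem' := ⟨1, by
    rw [mem_L_zsmul_iff]
    exact ⟨by simp, fun Q _ => by simp⟩, by simp⟩
  add_mem' := by
    rintro a b ⟨x, hx, hx'⟩ ⟨y, hy, hy'⟩
    refine ⟨x * y, ?_, ?_⟩
    · have := W4c6gradedringsgw.mul_mem_L hx hy
      rwa [← add_smul, ← Nat.cast_add] at this
    · rw [map_mul, hx', hy', ← exp_add, Nat.cast_add]

theorem mem_WS {P : Place k K} {n : ℕ} : n ∈ WS P ↔
    ∃ x ∈ L ((n : ℤ) • (Finsupp.single P 1 : Divisor k K)), P.1 x = exp (n : ℤ) := Iff.rfl

variable [IsAlgClosed k] (hK : IsFunctionField k K) (P : Place k K)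

include hK

theorem deg_eq_one : P.deg = 1 := by
  have h3 : Function.Bijective (algebraMap k (IsLocalRing.ResidueField P.O)) := by
    refine ⟨(algebraMap k (IsLocalRing.ResidueField P.O)).injective, fun y => ?_⟩
    obtain ⟨z, rfl⟩ := IsLocalRing.residue_surjective y
    obtain ⟨c, hc⟩ := K666.Basic.exists_const hK P z.1 z.2
    refine ⟨c, ?_⟩
    change IsLocalRing.residue P.O (algebraMap k P.O c) = _
    rw [← sub_eq_zero, ← map_sub, IsLocalRing.residue_eq_zero_iff]
    refine (Valuation.mem_maximalIdeal_iff (v := P.1)).2 ?_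
    change P.1 (algebraMap k K c - z.1) < 1
    rwa [Valuation.map_sub_swap]
  have h4 : Module.finrank k (IsLocalRing.ResidueField P.O) = Module.finrank k k :=
    (LinearEquiv.finrank_eq (LinearEquiv.ofBijective
      (Algebra.linearMap k (IsLocalRing.ResidueField P.O)) h3)).symm
  unfold Place.deg
  rw [h4, Module.finrank_self]

/-- the pole orders are the Weierstrass semigroup. -/
theorem poleOrders_eq : W4c6gradedringsgw.poleOrders P = (WS P : Set ℕ) := by
  ext n
  let V := L ((n : ℤ) • (Finsupp.single P 1 : Divisor k K))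
  let W := L (((n : ℤ) - 1) • (Finsupp.single P 1 : Divisor k K))
  have hV : FiniteDimensional k V := finite_L hK _
  have hWV : W ≤ V := by
    intro x hx
    rw [mem_L_zsmul_iff] at hx ⊢
    exact ⟨hx.1.trans (exp_le_exp.2 (by omega)), hx.2⟩
  have hV' : ∀ x : V, P.1 x.1 ≤ exp (n : ℤ) := fun x => ((mem_L_zsmul_iff P _ _).1 x.2).1
  let f : V →ₗ[k] k :=
    { toFun := fun x => lc P n x.1
      map_add' := fun x y => lc_add hK P (hV' x) (hV' y)
      map_smul' := fun c x => by
        change lc P n (c • x.1) = c * lc P n x.1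
        rw [Algebra.smul_def]
        exact lc_smul hK P c (hV' x) }
  have hker : LinearMap.ker f = W.comap V.subtype := by
    ext x
    rw [LinearMap.mem_ker, Submodule.mem_comap]
    change lc P n x.1 = 0 ↔ x.1 ∈ W
    rw [lc_eq_zero_iff hK P (hV' x), mem_L_zsmul_iff]
    exact ⟨fun h => ⟨h, ((mem_L_zsmul_iff P _ _).1 x.2).2⟩, fun h => h.1⟩
  have hfk : Module.finrank k (LinearMap.ker f) = Module.finrank k W := by
    rw [hker]
    exact LinearEquiv.finrank_eq (Submodule.comapSubtypeEquivOfLe hWV)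
  have hrn := LinearMap.finrank_range_add_finrank_ker f
  rw [hfk] at hrn
  change (Module.finrank k V = Module.finrank k W + 1) ↔ _
  constructor
  · intro h
    have h1 : LinearMap.range f ≠ ⊥ := by
      intro h1
      rw [h1, finrank_bot] at hrn
      omega
    obtain ⟨y, ⟨x, rfl⟩, hy⟩ := Submodule.exists_mem_ne_zero_of_ne_bot h1
    exact ⟨x.1, x.2, (lc_ne_zero_iff hK P (hV' x)).1 hy⟩
  · rintro ⟨x, hx, hx'⟩
    have h1 : LinearMap.range f = ⊤ := by
      have hxne : f ⟨x, hx⟩ ≠ 0 := (lc_ne_zero_iff hK P (hV' ⟨x, hx⟩)).2 hx'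
      rw [LinearMap.range_eq_top]
      exact LinearMap.surjective_of_ne_zero (fun h => hxne (by rw [h]; rfl))
    rw [h1, finrank_top, Module.finrank_self] at hrn
    omega

/-- all large integers are pole orders. -/
theorem exists_forall_mem_WS : ∃ N : ℕ, ∀ n, N ≤ n → n ∈ WS P := by
  obtain ⟨N, hN0, hN⟩ := riemann hK
  refine ⟨N.toNat + 1, fun n hn => ?_⟩
  have h1 := hN ((n : ℤ) • (Finsupp.single P 1 : Divisor k K)) (by
    rw [deg_zsmul, deg_single, deg_eq_one hK P]; push_cast; omega)
  have h2 := hN (((n : ℤ) - 1) • (Finsupp.single P 1 : Divisor k K)) (by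
    rw [deg_zsmul, deg_single, deg_eq_one hK P]; push_cast; omega)
  rw [deg_zsmul, deg_single, deg_eq_one hK P] at h1 h2
  have h3 : n ∈ W4c6gradedringsgw.poleOrders P := by
    change ell _ = ell _ + 1
    push_cast at h1 h2
    omega
  rwa [poleOrders_eq hK P] at h3

/-- one is not a pole order in positive genus. -/
theorem one_notMem_WS (hg : 1 ≤ genus k K) : 1 ∉ WS P := by
  rintro ⟨x, hx, hx'⟩
  have h1 : x ∈ L (Finsupp.single P 1 : Divisor k K) := by simpa using hx
  have := K660.LowGenus.genus_eq_zero_of_mem_L_single hK (deg_eq_one hK P) h1 (by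
    rintro ⟨c, rfl⟩
    have h2 := P.2.1 c
    rw [hx', ← exp_zero, exp_le_exp] at h2
    norm_num at h2)
  omega

theorem mem_range_of_mem_L_one (hg : 1 ≤ genus k K) {x : K}
    (hx : x ∈ L (Finsupp.single P 1 : Divisor k K)) : x ∈ Set.range (algebraMap k K) := by
  by_contra hcon
  have := K660.LowGenus.genus_eq_zero_of_mem_L_single hK (deg_eq_one hK P) hx hcon
  omega

omit [IsAlgClosed k] in
theorem mem_range_of_mem_L_zero {x : K}
    (hx : x ∈ L (0 : Divisor k K)) : x ∈ Set.range (algebraMap k K) := by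
  rw [K660.Compare.L_zero hK] at hx
  obtain ⟨c, rfl⟩ := Submodule.mem_one.1 hx
  exact ⟨c, rfl⟩

end semigroup

end K960.Sect
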