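import Groth.Agent.GrSect.K960.Sect
import Mathlib.RingTheory.Ideal.Quotient.Operations
import Mathlib.RingTheory.FiniteType

/-!
# The section ring of a point modulo its degree one element is the semigroup ring
-/

set_option autoImplicit false
universe u

namespace K960.SectRing

open Polynomial FunFld WithZero K960.Sect K960.SemiRing

variable {k K : Type u} [Field k] [Field K] [Algebra k K] (P : Place k K)

/-- the section ring of the point `P`. -/
noncomputable abbrev R (P : Place k K) : Subalgebra k K[X] :=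
  W4c6gradedringsgw.sectRing (Finsupp.single P 1 : Divisor k K)

theorem coeff_mem (p : R P) (n : ℕ) :
    p.1.coeff n ∈ L ((n : ℤ) • (Finsupp.single P 1 : Divisor k K)) := p.2 n

theorem val_coeff_le (p : R P) (n : ℕ) : P.1 (p.1.coeff n) ≤ exp (n : ℤ) :=
  ((mem_L_zsmul_iff P _ _).1 (p.2 n)).1

theorem mono_mem {n : ℕ} {x : K} (hx : x ∈ L ((n : ℤ) • (Finsupp.single P 1 : Divisor k K))) :
    C x * X ^ n ∈ R P := by
  intro m
  rw [coeff_C_mul, coeff_X_pow]
  split_ifs with h
  · rw [mul_one, h]; exact hx
  · rw [mul_zero]; exact Submodule.zero_mem _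

/-- homogeneous elements -/
noncomputable def mon {n : ℕ} {x : K}
    (hx : x ∈ L ((n : ℤ) • (Finsupp.single P 1 : Divisor k K))) : R P := ⟨_, mono_mem P hx⟩

theorem mon_val {n : ℕ} {x : K} (hx : x ∈ L ((n : ℤ) • (Finsupp.single P 1 : Divisor k K))) :
    (mon P hx).1 = C x * X ^ n := rfl

theorem one_mem_L (n : ℕ) : (1 : K) ∈ L ((n : ℤ) • (Finsupp.single P 1 : Divisor k K)) := by
  rw [mem_L_zsmul_iff]
  refine ⟨?_, fun Q _ => by rw [map_one]⟩
  rw [map_one, ← exp_zero, exp_le_exp]; omega

/-- the element `X` of degree one. -/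
noncomputable def XR : R P := mon P (one_mem_L P 1)

theorem XR_val : (XR P).1 = X := by
  rw [XR, mon_val, C_1, one_mul, pow_one]

/-- every element is the sum of its homogeneous components. -/
theorem eq_sum_mon (p : R P) : p = ∑ n ∈ p.1.support, mon P (p.2 n) := by
  apply Subtype.ext
  rw [AddSubmonoidClass.coe_finsetSum]
  exact p.1.as_sum_support_C_mul_X_pow

/-- the leading coefficient map as a linear map on polynomials -/
noncomputable def psiFun (p : K[X]) : k[X] := ∑ n ∈ p.support, C (lc P n (p.coeff n)) * X ^ n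

theorem coeff_psiFun (p : K[X]) (n : ℕ) : (psiFun P p).coeff n = lc P n (p.coeff n) := by
  unfold psiFun
  rw [finsetSum_coeff]
  simp only [coeff_C_mul, coeff_X_pow, mul_ite, mul_one, mul_zero]
  rw [Finset.sum_ite_eq]
  split_ifs with h
  · rfl
  · rw [notMem_support_iff.1 h, lc_zero]

variable {P}
variable [IsAlgClosed k] (hK : IsFunctionField k K)

/-- the leading coefficient homomorphism `R → k[X]`. -/
noncomputable def psi : R P →ₐ[k] k[X] where
  toFun p := psiFun P p.1
  map_one' := by
    ext n
    rw [coeff_psiFun, OneMemClass.coe_one, coeff_one, coeff_one]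
    split_ifs with h
    · subst h
      have := lc_algebraMap P (1 : k)
      rwa [map_one] at this
    · exact lc_zero P n
  map_mul' p q := by
    ext n
    rw [coeff_psiFun, coeff_mul, MulMemClass.coe_mul, coeff_mul, lc_sum hK]
    · refine Finset.sum_congr rfl fun x hx => ?_
      rw [coeff_psiFun, coeff_psiFun, ← lc_mul hK P (val_coeff_le P p x.1) (val_coeff_le P q x.2),
        Finset.mem_antidiagonal.1 hx]
    · intro x hx
      rw [map_mul, ← Finset.mem_antidiagonal.1 hx, Nat.cast_add, exp_add]
      exact mul_le_mul' (val_coeff_le P p x.1) (val_coeff_le P q x.2)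
  map_zero' := by
    ext n
    rw [coeff_psiFun, ZeroMemClass.coe_zero, coeff_zero, coeff_zero, lc_zero]
  map_add' p q := by
    ext n
    rw [coeff_psiFun, coeff_add, AddMemClass.coe_add, coeff_add, coeff_psiFun, coeff_psiFun,
      lc_add hK P (val_coeff_le P p n) (val_coeff_le P q n)]
  commutes' c := by
    ext n
    rw [coeff_psiFun, Polynomial.algebraMap_apply, Algebra.algebraMap_self, RingHom.id_apply]
    have h1 : (algebraMap k (R P) c).1 = C (algebraMap k K c) := rfl
    rw [h1, coeff_C, coeff_C]
    split_ifs with h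
    · subst h; exact lc_algebraMap P c
    · exact lc_zero P n

theorem coeff_psi (p : R P) (n : ℕ) : (psi hK p).coeff n = lc P n (p.1.coeff n) :=
  coeff_psiFun P p.1 n

theorem psi_mon {n : ℕ} {x : K} (hx : x ∈ L ((n : ℤ) • (Finsupp.single P 1 : Divisor k K))) :
    psi hK (mon P hx) = C (lc P n x) * X ^ n := by
  ext m
  rw [coeff_psi, mon_val, coeff_C_mul, coeff_C_mul, coeff_X_pow, coeff_X_pow]
  split_ifs with h
  · rw [mul_one, mul_one, h]
  · rw [mul_zero, mul_zero, lc_zero]

/-- the image of `psi` is the semigroup ring. -/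
theorem range_psi : (psi hK (P := P)).range = S k (WS P) := by
  ext q
  constructor
  · rintro ⟨p, rfl⟩
    change ∀ n, (psi hK p).coeff n ≠ 0 → n ∈ WS P
    intro n hn
    rw [coeff_psi] at hn
    exact ⟨p.1.coeff n, p.2 n, (lc_ne_zero_iff hK P (val_coeff_le P p n)).1 hn⟩
  · intro hq
    have hq' : q = ∑ n ∈ q.support, C (q.coeff n) * X ^ n := q.as_sum_support_C_mul_X_pow
    rw [hq']
    refine Subalgebra.sum_mem _ fun n hn => ?_
    obtain ⟨x, hx, hx'⟩ := hq n (mem_support_iff.1 hn)
    have h1 : lc P n x ≠ 0 := (lc_ne_zero_iff hK P hx'.le).2 hx'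
    have h2 : psi hK (algebraMap k _ (q.coeff n / lc P n x) * mon P hx) =
        C (q.coeff n) * X ^ n := by
      rw [map_mul, psi_mon, AlgHom.commutes, Polynomial.algebraMap_apply, Algebra.algebraMap_self,
        RingHom.id_apply, ← mul_assoc, ← C_mul, div_mul_cancel₀ _ h1]
    exact ⟨_, h2⟩

/-- The kernel of `psi` is generated by `X`. -/
theorem ker_psi : RingHom.ker (psi hK (P := P)) = Ideal.span {XR P} := by
  ext p
  rw [RingHom.mem_ker, Ideal.mem_span_singleton']
  constructor
  · intro h
    have h1 : ∀ n : ℕ, P.1 (p.1.coeff n) ≤ exp ((n : ℤ) - 1) := fun n => by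
      rw [← lc_eq_zero_iff hK P (val_coeff_le P p n), ← coeff_psi hK p n, h, coeff_zero]
    have h0 : p.1.coeff 0 = 0 := by
      obtain ⟨c, hc⟩ := mem_range_of_mem_L_zero hK (x := p.1.coeff 0) (by
        have := p.2 0
        simpa using this)
      by_contra hne
      have hc0 : c ≠ 0 := by
        rintro rfl
        rw [map_zero] at hc
        exact hne hc.symm
      have h2 := h1 0
      rw [← hc, K660.Ord.val_algebraMap P hc0, ← exp_zero, exp_le_exp] at h2
      norm_num at h2
    refine ⟨⟨divX p.1, fun n => ?_⟩, ?_⟩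
    · rw [coeff_divX, mem_L_zsmul_iff]
      refine ⟨?_, ((mem_L_zsmul_iff P _ _).1 (p.2 (n + 1))).2⟩
      have := h1 (n + 1)
      push_cast at this
      rwa [add_sub_cancel_right] at this
    · apply Subtype.ext
      rw [MulMemClass.coe_mul, XR_val]
      change divX p.1 * X = p.1
      conv_rhs => rw [← divX_mul_X_add p.1, h0, C_0, add_zero]
  · rintro ⟨q, rfl⟩
    have h1 : psi hK (XR P) = 0 := by
      rw [XR, psi_mon]
      have h2 : lc P 1 (1 : K) = (0 : k) := by
        rw [lc_eq_zero_iff hK P]
        · simp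
        · have := (mem_L_zsmul_iff P _ _).1 (one_mem_L P 1)
          exact this.1
      rw [h2, C_0, zero_mul]
    rw [map_mul, h1, mul_zero]

/-- `R / (X)` is the semigroup ring. -/
noncomputable def quotEquiv : (R P ⧸ Ideal.span {XR P}) ≃ₐ[k] S k (WS P) :=
  ((Ideal.quotientEquivAlgOfEq k (ker_psi hK).symm).trans
    (Ideal.quotientKerEquivRange (psi hK (P := P)))).trans
    (Subalgebra.equivOfEq _ _ (range_psi hK))

include hK in
theorem prime_XR : Prime (XR P) := by
  have h1 : XR P ≠ 0 := fun h => by
    have := congrArg Subtype.val h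
    rw [XR_val] at this
    exact X_ne_zero this
  rw [← Ideal.span_singleton_prime h1, ← ker_psi hK]
  exact RingHom.ker_isPrime _

end K960.SectRing
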