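import Groth.Prelude.Def_W4c6gradedringsgwSect
import Mathlib.Algebra.Polynomial.Basic
import Mathlib.Algebra.Polynomial.AlgebraMap
import Mathlib.Data.Int.LeastGreatest
import Mathlib.Algebra.Group.Submonoid.Defs

/-!
# Numerical semigroups: pseudo-Frobenius numbers and symmetry
-/

set_option autoImplicit false
universe u

namespace K960.Semi

/-- membership of an integer in a set of naturals. -/
def ZMem (H : AddSubmonoid ℕ) (n : ℤ) : Prop := ∃ h ∈ H, (h : ℤ) = n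

theorem zmem_natCast {H : AddSubmonoid ℕ} {n : ℕ} : ZMem H n ↔ n ∈ H :=
  ⟨fun ⟨h, hh, he⟩ => by rwa [← Nat.cast_injective he], fun h => ⟨n, h, rfl⟩⟩

theorem ZMem.add {H : AddSubmonoid ℕ} {m n : ℤ} (hm : ZMem H m) (hn : ZMem H n) :
    ZMem H (m + n) := by
  obtain ⟨a, ha, rfl⟩ := hm
  obtain ⟨b, hb, rfl⟩ := hn
  exact ⟨a + b, H.add_mem ha hb, by push_cast; rfl⟩

theorem ZMem.nonneg {H : AddSubmonoid ℕ} {m : ℤ} (hm : ZMem H m) : 0 ≤ m := by
  obtain ⟨a, ha, rfl⟩ := hm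
  exact Int.natCast_nonneg a

theorem zmem_zero (H : AddSubmonoid ℕ) : ZMem H 0 := ⟨0, H.zero_mem, rfl⟩

/-- pseudo-Frobenius numbers -/
def PF (H : AddSubmonoid ℕ) (x : ℤ) : Prop :=
  ¬ ZMem H x ∧ ∀ h ∈ H, h ≠ 0 → ZMem H (x + h)

/-- every gap `n` satisfies `n + h ∈ PF` for some `h ∈ H`. -/
theorem exists_PF_of_not_mem {H : AddSubmonoid ℕ} {N : ℕ} (hN : ∀ n, N ≤ n → n ∈ H) {n : ℤ}
    (hn : ¬ ZMem H n) : ∃ h ∈ H, PF H (n + h) := by
  classical
  have hb : ∃ b : ℤ, ∀ z : ℤ, (∃ h ∈ H, (h : ℤ) = z ∧ ¬ ZMem H (n + h)) → z ≤ b := by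
    refine ⟨N + |n|, ?_⟩
    rintro z ⟨h, hh, rfl, hz⟩
    by_contra hcon
    push Not at hcon
    apply hz
    have h1 : (N : ℤ) ≤ n + h := by
      have := neg_abs_le n
      omega
    obtain ⟨m, hm⟩ : ∃ m : ℕ, (m : ℤ) = n + h := ⟨(n + h).toNat, by omega⟩
    rw [← hm, zmem_natCast]
    exact hN m (by omega)
  obtain ⟨z, ⟨h, hh, hz, hhz⟩, hmax⟩ := Int.exists_greatest_of_bdd hb
    ⟨0, 0, H.zero_mem, rfl, by simpa using hn⟩
  refine ⟨h, hh, hhz, fun h' hh' h0 => ?_⟩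
  by_contra hcon
  have := hmax ((h + h' : ℕ) : ℤ) ⟨h + h', H.add_mem hh hh', rfl, by
    push_cast; rwa [← add_assoc]⟩
  rw [← hz] at this
  push_cast at this
  have h1 : 0 < h' := Nat.pos_of_ne_zero h0
  omega

theorem exists_PF {H : AddSubmonoid ℕ} {N : ℕ} (hN : ∀ n, N ≤ n → n ∈ H) : ∃ F, PF H F := by
  obtain ⟨h, _, hh⟩ := exists_PF_of_not_mem hN (n := -1)
    (fun h => by have := h.nonneg; omega)
  exact ⟨_, hh⟩

/-- `H` is symmetric exactly when it has a unique pseudo-Frobenius number. -/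
theorem isSymmetric_iff {H : AddSubmonoid ℕ} {N : ℕ} (hN : ∀ n, N ≤ n → n ∈ H) :
    W4c6gradedringsgw.IsSymmetric (H : Set ℕ) ↔ ∀ x y, PF H x → PF H y → x = y := by
  constructor
  · rintro ⟨d, hd⟩
    have key : ∀ x, PF H x → x = d := by
      rintro x ⟨hx, hx'⟩
      have h1 : ZMem H (d - x) := by
        by_contra hcon
        exact hx ((hd x).2 hcon)
      obtain ⟨h, hh, hhe⟩ := h1
      by_cases h0 : h = 0
      · subst h0
        push_cast at hhe
        omega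
      · exfalso
        have h2 := hx' h hh h0
        rw [hhe, add_sub_cancel] at h2
        exact (hd d).1 h2 ⟨0, H.zero_mem, by simp⟩
    intro x y hx hy
    rw [key x hx, key y hy]
  · intro huniq
    obtain ⟨F, hF⟩ := exists_PF hN
    refine ⟨F, fun n => ⟨?_, ?_⟩⟩
    · rintro ⟨h, hh, rfl⟩ ⟨h', hh', he⟩
      apply hF.1
      exact ⟨h + h', H.add_mem hh hh', by push_cast; omega⟩
    · intro hn
      by_contra hcon
      obtain ⟨h, hh, hPF⟩ := exists_PF_of_not_mem hN (n := n) hcon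
      have h1 := huniq _ _ hPF hF
      exact hn ⟨h, hh, by omega⟩

end K960.Semi
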