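import Groth.Agent.GrSect.K960.SemiRing
import Mathlib.Algebra.MonoidAlgebra.Basic
import Mathlib.Algebra.MonoidAlgebra.MapDomain

/-!
# The subalgebra `k[H] ⊆ k[X]` is the additive monoid algebra of `H`
-/

set_option autoImplicit false
universe u

namespace K960.SemiAlg

open Polynomial K960.SemiRing

variable (k : Type u) [Field k] (H : AddSubmonoid ℕ)

/-- `k[H] → k[X]` from the additive monoid algebra. -/
noncomputable def theta : AddMonoidAlgebra k H →ₐ[k] k[X] :=
  ((toFinsuppIsoAlg k).symm : AddMonoidAlgebra k ℕ →ₐ[k] k[X]).comp
    (AddMonoidAlgebra.mapDomainAlgHom k k H.subtype)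

theorem theta_single (h : H) (c : k) :
    theta k H (AddMonoidAlgebra.single h c) = monomial (h : ℕ) c := by
  have h1 : AddMonoidAlgebra.mapDomainAlgHom k k H.subtype (AddMonoidAlgebra.single h c) =
    AddMonoidAlgebra.single (h : ℕ) c := AddMonoidAlgebra.mapDomain_single
  unfold theta
  rw [AlgHom.comp_apply, h1]
  exact ofFinsupp_single (h : ℕ) c

theorem theta_injective : Function.Injective (theta k H) := by
  unfold theta
  rw [AlgHom.coe_comp]
  refine Function.Injective.comp (toFinsuppIsoAlg k).symm.injective ?_
  exact AddMonoidAlgebra.mapDomain_injective Subtype.val_injective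

theorem range_theta : (theta k H).range = S k H := by
  ext q
  constructor
  · rintro ⟨x, rfl⟩
    change theta k H x ∈ S k H
    induction x using AddMonoidAlgebra.induction_linear with
    | zero => rw [map_zero]; exact Subalgebra.zero_mem _
    | add x y hx hy => rw [map_add]; exact Subalgebra.add_mem _ hx hy
    | single h c =>
      rw [theta_single]
      intro n hn
      rw [coeff_monomial] at hn
      split_ifs at hn with h1
      · rw [← h1]; exact h.2
      · exact absurd rfl hn
  · intro hq
    rw [q.as_sum_support]
    refine Subalgebra.sum_mem _ fun n hn => ?_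
    exact ⟨AddMonoidAlgebra.single ⟨n, hq n (mem_support_iff.1 hn)⟩ (q.coeff n),
      theta_single k H ⟨n, hq n (mem_support_iff.1 hn)⟩ (q.coeff n)⟩

/-- The additive monoid algebra is the subalgebra `S k H`. -/
noncomputable def equivS : AddMonoidAlgebra k H ≃ₐ[k] S k H :=
  (AlgEquiv.ofInjective (theta k H) (theta_injective k H)).trans
    (Subalgebra.equivOfEq _ _ (range_theta k H))

end K960.SemiAlg
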